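import Cfsg.Agent.H770.Core
import Cfsg.Agent.H770.Limit
import Cfsg.Agent.H752.Ext
import Cfsg.Agent.H752.Gen
import Cfsg.Agent.H759.ResInv
import Cfsg.Agent.S5113
import Cfsg.Agent.S5140

/-!
# `p`-power index and index prime to `p` (helper770)
-/

set_option autoImplicit false
set_option linter.unusedVariables false

namespace Cfsg.Agent.H770

open Cfsg Cfsg.FusionSystem Cfsg.Agent.H752

variable {Ω : Type*} [Group Ω] {S T U : Subgroup Ω} {p : ℕ}

theorem exists_inv_T [Finite T] {C : FusionSystem U} (hT : C.StronglyClosed T) {a : Ω → Ω}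
    (ha : Mp C T a) : ∃ b, Mp C T b ∧ (∀ x ∈ T, b (a x) = x) ∧ (∀ x ∈ T, b x ∈ T ∧ a (b x) = x) := by
  obtain ⟨b, hb, h1, h2⟩ := ha.exists_symm le_rfl (T := T) (Mp.im_of_maps ha
    fun x hx => mp_mem_of_stronglyClosed hT ha hx hx)
  exact ⟨b, hb, h1, h2⟩

/-- Invariance of a `p`-power index subsystem of a strongly invariant subsystem. -/
theorem invC_ppow [Finite T] [Fact p.Prime] {C : FusionSystem U} {D : FusionSystem S}
    {E : FusionSystem T} (hTp : IsPGroup p T) (hTC : C.StronglyClosed T) (hE : E.IsSaturated p)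
    (hEi : E.HasPPowerIndexIn D p) (hSI : StrongInvC D C) : InvC E C := by
  have hTS : T ≤ S := le_of_sub hEi.1
  have key := mp_generation E hTp hE (fun P f => ∀ (a h : Ω → Ω) (R : Subgroup Ω), Mp C T a →
      (∀ y ∈ R, ∃ x ∈ P, a x = y ∧ h y = a (f x)) → Mp E R h) ?_ ?_ ?_ ?_ ?_ ?_
  · intro P R f a h hf ha hR
    exact key P f hf a h R ha hR
  · intro P f g hf h he a k R ha hR
    refine h a k R ha fun y hy => ?_
    obtain ⟨x, hx, h1, h2⟩ := hR y hy
    exact ⟨x, hx, h1, by rw [h2, he x hx]⟩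
  · intro P R f _ h hR a k R' ha hR'
    refine h a k R' ha fun y hy => ?_
    obtain ⟨x, hx, h1, h2⟩ := hR' y hy
    exact ⟨x, hR hx, h1, h2⟩
  · intro P Q f g hf hg h1 h2 hPQ a h R ha hR
    obtain ⟨b, hb, hb1, hb2⟩ := exists_inv_T hTC ha
    obtain ⟨Q', hQ', hQ'S, -⟩ := Mp.exists_im ha hg.le
    have h3 : Mp E R (fun y => a (f (b y))) := h1 a _ R ha fun y hy => by
      obtain ⟨x, hx, rfl, -⟩ := hR y hy
      exact ⟨x, hx, rfl, by rw [hb1 x (hf.le hx)]⟩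
    have h4 : Mp E Q' (fun y => a (g (b y))) := h2 a _ Q' ha fun y hy => by
      obtain ⟨x, hx, rfl⟩ := (hQ' y).1 hy
      exact ⟨x, hx, rfl, by rw [hb1 x (hg.le hx)]⟩
    refine (h3.comp h4 ?_).congr ?_
    · intro y hy
      obtain ⟨x, hx, rfl, -⟩ := hR y hy
      rw [hb1 x (hf.le hx)]
      exact hQ'.apply (hPQ x hx)
    · intro y hy
      obtain ⟨x, hx, rfl, h5⟩ := hR y hy
      show h (a x) = a (g (b (a (f (b (a x))))))
      rw [h5, hb1 x (hf.le hx), hb1 _ (hf.mem hx)]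
  · intro P R f g hf h1 hg hinv a h R' ha hR'
    obtain ⟨b, hb, hb1, hb2⟩ := exists_inv_T hTC ha
    obtain ⟨P', hP', hP'S, -⟩ := Mp.exists_im ha hf.le
    have h3 : Mp E P' (fun y => a (f (b y))) := h1 a _ P' ha fun y hy => by
      obtain ⟨x, hx, rfl⟩ := (hP' y).1 hy
      exact ⟨x, hx, rfl, by rw [hb1 x (hf.le hx)]⟩
    refine h3.symm fun y hy => ?_
    obtain ⟨z, hz, rfl, h5⟩ := hR' y hy
    obtain ⟨x, hx, rfl, h6⟩ := hinv z hz
    exact ⟨a x, hP'.apply hx, by rw [hb1 x (hf.le hx)], by rw [h5, h6]⟩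
  · intro P hP s hs a h R ha hR
    have hRT : R ≤ T := by
      intro y hy
      obtain ⟨x, hx, rfl, -⟩ := hR y hy
      exact mp_mem_of_stronglyClosed hTC ha (hP hx) (hP hx)
    refine (mp_conj E hRT (mp_mem_of_stronglyClosed hTC ha hs hs)).congr fun y hy => ?_
    obtain ⟨x, hx, rfl, h2⟩ := hR y hy
    rw [h2, ha.mul (T.mul_mem hs (hP hx)) (T.inv_mem hs), ha.mul hs (hP hx), ha.inv hs]
  · intro Q hQa hQr α hα hc f hfα a h R ha hR
    have hQT : Q ≤ T := hQa.1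
    have hfQ : Finite Q := H802.finite_of_le hQT
    have hfe : ∀ x ∈ Q, f x = ac α x := fun x hx => by rw [hfα x hx, ac_apply α hx]
    obtain ⟨b, hb, hb1, hb2⟩ := exists_inv_T hTC ha
    obtain ⟨R₁, hR₁, hR₁S, -⟩ := Mp.exists_im ha hQT
    have hR₁T : R₁ ≤ T := by
      intro y hy
      obtain ⟨x, hx, rfl⟩ := (hR₁ y).1 hy
      exact mp_mem_of_stronglyClosed hTC ha (hQT hx) (hQT hx)
    have hfR₁ : Finite R₁ := H802.finite_of_le hR₁T
    have hbR : ∀ y ∈ R₁, b y ∈ Q ∧ a (b y) = y := by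
      intro y hy
      obtain ⟨x, hx, rfl⟩ := (hR₁ y).1 hy
      rw [hb1 x (hQT hx)]
      exact ⟨hx, rfl⟩
    -- the transported automorphism lies in `D`
    have h1 : Mp D R₁ (fun y => a (ac α (b y))) := by
      refine hSI Q Q R₁ (ac α) a _ le_rfl (hQT.trans hTS) (mp_mono hEi.1 (mp_ac hQT hα))
        (fun x hx => ac_mem _ hx) (ha.res hQT) fun y hy => ⟨b y, (hbR y hy).1, (hbR y hy).2, rfl⟩
    obtain ⟨β, hβ, h2⟩ := exists_ac h1 fun y hy => hR₁.apply (ac_mem _ (hbR y hy).1)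
    -- powers
    have hpow : ∀ n : ℕ, ∀ y ∈ R₁, ac (β ^ n) y = a (ac (α ^ n) (b y)) := by
      intro n
      induction n with
      | zero =>
        intro y hy
        rw [pow_zero, pow_zero, ac_one hy, ac_one (hbR y hy).1, (hbR y hy).2]
      | succ n ih =>
        intro y hy
        rw [pow_succ, pow_succ, ac_mul _ _ hy, ac_mul _ _ (hbR y hy).1, ← h2 y hy,
          ih _ (hR₁.apply (ac_mem _ (hbR y hy).1)), hb1 _ (hQT (ac_mem _ (hbR y hy).1))]
    have hβc : (orderOf β).Coprime p := by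
      have h3 : orderOf β ∣ orderOf α := by
        rw [orderOf_dvd_iff_pow_eq_one]
        ext y
        rw [← ac_apply _ y.2, hpow _ y y.2, pow_orderOf_eq_one, ac_one (hbR y y.2).1,
          (hbR y y.2).2]
        rfl
      exact Nat.Coprime.coprime_dvd_left h3 hc
    have h4 := mp_ac hR₁T (mem_autGroup_of_coprime hEi hR₁T hβ hβc)
    have hRR₁ : R ≤ R₁ := by
      intro y hy
      obtain ⟨x, hx, rfl, -⟩ := hR y hy
      exact hR₁.apply hx
    refine (h4.res hRR₁).congr fun y hy => ?_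
    obtain ⟨x, hx, rfl, h5⟩ := hR y hy
    rw [h5, ← h2 _ (hRR₁ hy), hb1 x (hQT hx), hfe x hx]

/-- Transitivity of the Frattini condition. -/
theorem fratC_trans [Finite T] {C : FusionSystem U} {D : FusionSystem S} {E : FusionSystem T}
    (hTS : T ≤ S) (hTC : C.StronglyClosed T) (hDC : D.IsSubsystemOf C) (hED : E.IsSubsystemOf D)
    {P : Subgroup Ω} {f : Ω → Ω}
    (hPT : P ≤ T) (h1 : FratC D C P f)
    (h2 : ∀ (P : Subgroup Ω) (f : Ω → Ω), P ≤ T → Mp D P f → FratC E D P f) : FratC E C P f := by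
  obtain ⟨a, ha, f₀, hf₀, h3⟩ := h1
  obtain ⟨b, hb, f₁, hf₁, h4⟩ := h2 P f₀ hPT hf₀
  refine ⟨fun x => a (b x), (mp_mono hDC hb).comp ha fun x hx => ?_, f₁, hf₁, fun x hx => ?_⟩
  · exact hTS (mp_mem_of_stronglyClosed hTC (mp_mono hDC hb) hx hx)
  · rw [h3 x hx, h4 x hx]

/-- Characterisation of index prime to `p`. -/
theorem pidx_iff [Fact p.Prime] {E F : FusionSystem S} : E.HasPrimeToPIndexIn F p ↔
    E.IsSubsystemOf F ∧ ∀ P : Subgroup Ω, P ≤ S → ∀ α ∈ F.autGroup P, (∃ n : ℕ, α ^ p ^ n = 1) →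
      α ∈ E.autGroup P := by
  constructor
  · rintro ⟨h1, h2⟩
    refine ⟨h1, fun P hP α hα hn => h2 P hP ⟨⟨α, hα⟩, Subgroup.subset_closure ?_, rfl⟩⟩
    obtain ⟨n, hn⟩ := hn
    have h3 : (⟨α, hα⟩ : F.autGroup P) ^ p ^ n = 1 := Subtype.ext hn
    obtain ⟨k, -, hk⟩ := (Nat.dvd_prime_pow Fact.out).1 (orderOf_dvd_of_pow_eq_one h3)
    exact ⟨k, hk⟩
  · rintro ⟨h1, h2⟩
    refine ⟨h1, fun P hP => ?_⟩
    rw [Subgroup.map_le_iff_le_comap, Subgroup.closure_le]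
    rintro ⟨α, hα⟩ ⟨k, hk⟩
    refine h2 P hP α hα ⟨k, ?_⟩
    have h3 : (⟨α, hα⟩ : F.autGroup P) ^ p ^ k = 1 := by rw [← hk]; exact pow_orderOf_eq_one _
    exact congrArg Subtype.val h3

theorem pidx_trans [Fact p.Prime] {C D E : FusionSystem S} (h1 : D.HasPrimeToPIndexIn C p)
    (h2 : E.HasPrimeToPIndexIn D p) : E.HasPrimeToPIndexIn C p := by
  rw [pidx_iff] at *
  exact ⟨fun P => (h2.1 P).trans (h1.1 P), fun P hP α hα hn => h2.2 P hP α (h1.2 P hP α hα hn) hn⟩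

theorem pidx_of_le [Fact p.Prime] {C D E : FusionSystem S} (h1 : D.IsSubsystemOf C)
    (h2 : E.IsSubsystemOf D) (h3 : E.HasPrimeToPIndexIn C p) : E.HasPrimeToPIndexIn D p := by
  rw [pidx_iff] at *
  exact ⟨h2, fun P hP α hα hn => h3.2 P hP α (autGroup_mono' h1 P hα) hn⟩

/-- The `p'`-residual of a subsystem of index prime to `p`. -/
theorem pprime_trans [Fact p.Prime] {C D G : FusionSystem S} (hDs : D.IsSaturated p)
    (hD : D.HasPrimeToPIndexIn C p) (hG : C.IsPPrimeResidual p G) : D.IsPPrimeResidual p G := by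
  obtain ⟨h1, h2, h3⟩ := hG
  exact ⟨h1, pidx_of_le hD.1 (h3 D hDs hD) h2, fun D' hD's hD' => h3 D' hD's (pidx_trans hD hD')⟩

/-- **Diamond lemma.** -/
theorem diamond [Finite S] [Fact p.Prime] (hS : IsPGroup p S) {C D : FusionSystem S}
    (hC : C.IsSaturated p) (hD : D.IsSaturated p) (hDC : D.IsInvariantIn C)
    (hT : C.hyperfocalSubgroup p ≤ T) (hTS : T ≤ S) (hTn : ∀ s ∈ S, ∀ t ∈ T, s * t * s⁻¹ ∈ T)
    {CT DT : FusionSystem T} (hCTs : CT.IsSaturated p) (hCT : CT.HasPPowerIndexIn C p)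
    (hDTs : DT.IsSaturated p) (hDT : DT.HasPPowerIndexIn D p) : DT.HasPrimeToPIndexIn CT p := by
  have hfT : Finite T := H802.finite_of_le hTS
  have hTp : IsPGroup p T := hS.to_le hTS
  obtain ⟨hDCs, -, hDI, hDFr⟩ := isInvariantIn_iff.1 hDC
  have hTC : C.StronglyClosed T := stronglyClosed_of_hyperfocal_le hS hC hTS hTn hT
  have hTD : D.StronglyClosed T := stronglyClosed_of_hyperfocal_le hS hD hTS hTn
    ((hyp_mono hDCs p).trans hT)
  have hSI : StrongInvC D C := strongInvC_of_invC hDI hDFr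
  have hI : InvC DT C := invC_ppow hTp hTC hDTs hDT hSI
  have hID : InvC DT D := invC_ppow hTp hTD hDTs hDT (strongInvC_of_invC invC_self
    fun P f _ hf => ⟨fun x => x, mp_id D le_rfl, f, hf, fun _ _ => rfl⟩)
  have hprime : ∀ P : Subgroup Ω, P ≤ T → ∀ α ∈ D.autGroup P, Nat.Coprime (orderOf α) p →
      α ∈ DT.autGroup P := fun P hP α hα hc => mem_autGroup_of_coprime hDT hP hα hc
  have hFrD := fratC_of_prime hS hD hTD hID hprime
  have hSI' : StrongInvC DT C := strongInvC_of_invC hI fun P f hPT hf =>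
    fratC_trans hTS hTC hDCs hDT.1 hPT (hDFr P f hf.le hf) fun P f hPT hf =>
      (hFrD P f hf).res (le_inf le_rfl hPT)
  rw [pidx_iff]
  refine ⟨fun P => ?_, fun P hPT α hα hn => ?_⟩
  · exact le_of_coprime_aut hTp hDTs (fun P hP α hα ho => mem_autGroup_of_coprime hCT hP
      (autGroup_mono' hDCs P (autGroup_mono' hDT.1 P hα)) ho) P
  · obtain ⟨n, hn⟩ := hn
    obtain ⟨φ, hφ, g, hg, hge⟩ := H802.exists_conj_of_orderOf hCTs hPT hα hn
    have hφm := mp_ex hφ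
    obtain ⟨P₁, hP₁, hP₁T, -⟩ := Mp.exists_im hφm le_rfl
    obtain ⟨i, hi, hi1, hi2⟩ := hφm.exists_symm le_rfl hP₁
    have hval : ∀ x ∈ P, g * ex φ x * g⁻¹ = ex φ (ac α x) := fun x hx => by
      rw [ex_apply _ hx, ex_apply _ (ac_mem α hx), ← hge ⟨x, hx⟩]
      congr 1
      exact Subtype.ext (ac_apply α hx).symm
    apply mem_of_mp_ac
    refine hSI' P₁ P₁ P (fun x => g * x * g⁻¹) i (ac α) le_rfl hP₁T (mp_conj DT hP₁T hg) ?_
      (mp_mono hCT.1 hi) ?_
    · intro y hy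
      obtain ⟨x, hx, rfl⟩ := (hP₁ y).1 hy
      show g * ex φ x * g⁻¹ ∈ P₁
      rw [hval x hx]
      exact hP₁.apply (ac_mem _ hx)
    · intro x hx
      refine ⟨ex φ x, hP₁.apply hx, hi1 x hx, ?_⟩
      show ac α x = i (g * ex φ x * g⁻¹)
      rw [hval x hx, hi1 _ (ac_mem _ hx)]

end Cfsg.Agent.H770
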