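import Cfsg.Agent.H770.Diamond

/-!
# Residual limits: existence, and invariance under passing to a subsystem of index prime to `p` (helper770)
-/

set_option autoImplicit false
set_option linter.unusedVariables false

namespace Cfsg.Agent.H770

open Cfsg Cfsg.FusionSystem Cfsg.Agent.H752

variable {Ω : Type*} [Group Ω] {p : ℕ}

/-- Every element of `S` normalizes the hyperfocal subgroup. -/
theorem hyp_normal {S : Subgroup Ω} (F : FusionSystem S) {s t : Ω} (hs : s ∈ S)
    (ht : t ∈ F.hyperfocalSubgroup p) : s * t * s⁻¹ ∈ F.hyperfocalSubgroup p := by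
  have h1 : F.hyperfocalSubgroup p ≤ (F.hyperfocalSubgroup p).comap (MulAut.conj s).toMonoidHom := by
    rw [hyp_le_iff]
    intro P hP α hα ho x
    show s * ((x : Ω)⁻¹ * ((α x : P) : Ω)) * s⁻¹ ∈ F.hyperfocalSubgroup p
    have hcm := mp_conj F hP hs
    obtain ⟨P₁, hP₁, hP₁S, -⟩ := Mp.exists_im hcm le_rfl
    obtain ⟨i, hi, hi1, hi2⟩ := hcm.exists_symm le_rfl hP₁
    have hm : Mp F P₁ (fun y => s * ac α (i y) * s⁻¹) :=
      (hi.comp (mp_ac hP hα) fun y hy => (hi2 y hy).1).comp hcm fun y hy => ac_mem _ (hi2 y hy).1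
    have hmm : ∀ y ∈ P₁, s * ac α (i y) * s⁻¹ ∈ P₁ := fun y hy => hP₁.apply (ac_mem _ (hi2 y hy).1)
    -- an explicit automorphism of `P₁`
    obtain ⟨e, he⟩ : ∃ e : P ≃* P₁, ∀ x : P, ((e x : P₁) : Ω) = s * x * s⁻¹ := by
      refine ⟨⟨⟨fun x => ⟨s * x * s⁻¹, hP₁.apply x.2⟩, fun y => ⟨i y, (hi2 y y.2).1⟩, ?_, ?_⟩, ?_⟩,
        fun _ => rfl⟩
      · intro x
        exact Subtype.ext (hi1 x x.2)
      · intro y
        exact Subtype.ext (hi2 y y.2).2
      · intro x y
        apply Subtype.ext
        show s * (x * y : P) * s⁻¹ = (s * x * s⁻¹) * (s * y * s⁻¹)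
        push_cast
        group
    have hβ : MulAut.congr e α ∈ F.autGroup P₁ := by
      refine hm.mem_autGroup fun y hy => ?_
      show s * ac α (i y) * s⁻¹ = ((e (α (e.symm ⟨y, hy⟩)) : P₁) : Ω)
      rw [he]
      have h2 : e.symm ⟨y, hy⟩ = ⟨i y, (hi2 y hy).1⟩ := by
        rw [MulEquiv.symm_apply_eq]
        apply Subtype.ext
        rw [he]
        exact (hi2 y hy).2.symm
      rw [h2, ac_apply α (hi2 y hy).1]
    have hβo : (orderOf (MulAut.congr e α)).Coprime p := by
      rwa [MulEquiv.orderOf_eq]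
    have h3 := hyp_le_iff.1 (le_refl (F.hyperfocalSubgroup p)) P₁ hP₁S _ hβ hβo (e x)
    have h4 : ((MulAut.congr e α (e x) : P₁) : Ω) = s * (α x : P) * s⁻¹ := by
      show ((e (α (e.symm (e x))) : P₁) : Ω) = _
      rw [MulEquiv.symm_apply_apply, he]
    rw [h4, he] at h3
    have h5 : (s * (x : Ω) * s⁻¹)⁻¹ * (s * ((α x : P) : Ω) * s⁻¹) =
      s * ((x : Ω)⁻¹ * ((α x : P) : Ω)) * s⁻¹ := by group
    rwa [h5] at h3
  exact h1 ht

/-- **Existence of the residual limit.** -/
theorem exists_limit [Fact p.Prime] : ∀ (n : ℕ) {S : Subgroup Ω} [Finite S] (hS : IsPGroup p S)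
    (hn : Nat.card S ≤ n) (F : FusionSystem S) (hF : F.IsSaturated p),
    ∃ (U : Subgroup Ω) (L : FusionSystem U), L.IsResidualLimitOf F p := by
  intro n
  induction n with
  | zero =>
    intro S _ hS hn F hF
    exact absurd (Nat.card_pos (α := S)) (by omega)
  | succ n ih =>
    intro S _ hS hn F hF
    -- systems over smaller hyperfocal subgroups
    have hsmall : ∀ F : FusionSystem S, F.IsSaturated p → F.hyperfocalSubgroup p ≠ S →
        ∃ (U : Subgroup Ω) (L : FusionSystem U), L.IsResidualLimitOf F p := by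
      intro F hF hne
      have hle := hyp_le F p
      have hfT : Finite (F.hyperfocalSubgroup p) := H802.finite_of_le hle
      obtain ⟨D, ⟨hDs, hDi⟩, -⟩ := S5113.result p hS F hF _ hle le_rfl
      obtain ⟨D', hD'⟩ := S5140.result p (hS.to_le hle) D hDs
      have hlt : Nat.card (F.hyperfocalSubgroup p) ≤ n := by
        have h1 : Nat.card (F.hyperfocalSubgroup p) < Nat.card S :=
          lt_of_le_of_ne (Subgroup.card_le_of_le hle) fun h =>
            hne (Subgroup.eq_of_le_of_card_ge hle h.ge)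
        omega
      obtain ⟨U, L, hL⟩ := ih (hS.to_le hle) hlt D' hD'.1
      exact ⟨U, L, .step F p D D' ⟨hDs, hDi⟩ hD' hL⟩
    by_cases hne : F.hyperfocalSubgroup p = S
    · obtain ⟨E, hE⟩ := S5140.result p hS F hF
      have hEE : E.IsPPrimeResidual p E := pprime_trans hE.1 hE.2.1 hE
      have hEL : ∃ (U : Subgroup Ω) (L : FusionSystem U), L.IsResidualLimitOf E p := by
        by_cases hE' : E.hyperfocalSubgroup p = S
        · exact ⟨S, E, .stable E p hE' hEE⟩
        · exact hsmall E hE.1 hE'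
      obtain ⟨U, L, hL⟩ := hEL
      -- `F` is its own `p`-residual
      have key : ∀ (T : Subgroup Ω) (hT : S = T), ∃ D D' : FusionSystem T, HomEq F D ∧ HomEq E D' := by
        intro T hT
        subst hT
        exact ⟨F, E, HomEq.refl _, HomEq.refl _⟩
      obtain ⟨D, D', h1, h2⟩ := key _ hne.symm
      have h3 : F.IsPResidual p D := by
        refine ⟨h1.rec_on (fun G => G.IsSaturated p) hF, ?_⟩
        exact h1.rec_on (fun G => G.HasPPowerIndexIn F p) (ppow_refl F)
      have h4 : D.IsPPrimeResidual p D' := by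
        have h5 : ∀ {T : Subgroup Ω} (D D' : FusionSystem T), HomEq F D → HomEq E D' →
            D.IsPPrimeResidual p D' := by
          intro T D D' h1 h2
          obtain rfl := h1.eq
          obtain rfl := fus_ext h1
          obtain rfl := fus_ext h2
          exact hE
        exact h5 D D' h1 h2
      exact ⟨U, L, .step F p D D' h3 h4 (limit_congr h2 hL)⟩
    · exact hsmall F hF hne

theorem exists_limit' [Fact p.Prime] {S : Subgroup Ω} [Finite S] (hS : IsPGroup p S)
    {F : FusionSystem S} (hF : F.IsSaturated p) :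
    ∃ (U : Subgroup Ω) (L : FusionSystem U), L.IsResidualLimitOf F p :=
  exists_limit _ hS le_rfl F hF

/-- The residual limit of the `p'`-residual. -/
theorem limit_pprime_residual [Fact p.Prime] : ∀ (n : ℕ) {S : Subgroup Ω} [Finite S]
    (hS : IsPGroup p S) (hn : Nat.card S ≤ n) (C D : FusionSystem S) (hC : C.IsSaturated p)
    (hD : C.IsPPrimeResidual p D) {U V : Subgroup Ω} (L₁ : FusionSystem U) (L₂ : FusionSystem V)
    (h₁ : L₁.IsResidualLimitOf C p) (h₂ : L₂.IsResidualLimitOf D p), HomEq L₁ L₂ := by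
  intro n
  induction n with
  | zero =>
    intro S _ hS hn F hF
    exact absurd (Nat.card_pos (α := S)) (by omega)
  | succ n ih =>
    intro S _ hS hn C D hC hD U V L₁ L₂ h₁ h₂
    have hle := hyp_le C p
    have hfT : Finite (C.hyperfocalSubgroup p) := H802.finite_of_le hle
    have hTp : IsPGroup p (C.hyperfocalSubgroup p) := hS.to_le hle
    rcases limit_cases h₁ with ⟨h3, h4, h5⟩ | ⟨C₁, C₁', hC₁, hC₁', hL⟩
    · have h6 : D = C := pprime_residual_unique hD h5
      rw [h6] at h₂
      exact limit_unique h₁ h₂ inferInstance inferInstance hS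
    · by_cases hne : C.hyperfocalSubgroup p = S
      · have e1 : HomEq C₁ C := ppow_homEq hS hne hC₁.1 hC hC₁.2 (ppow_refl C)
        have e2 : HomEq C₁' D := pprime_homEq e1 hC₁' hD
        exact limit_unique (limit_congr e2 hL) h₂ inferInstance inferInstance hS
      · have hDle : D.hyperfocalSubgroup p ≤ C.hyperfocalSubgroup p := hyp_mono hD.2.1.1 p
        obtain ⟨DT, ⟨hDTs, hDTi⟩, -⟩ := S5113.result p hS D hD.1 _ hle hDle
        have hdia := diamond hS hC hD.1 (H759.isInvariantIn_of_isPPrimeResidual hS hC hD) le_rfl hle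
          (fun s hs t ht => hyp_normal C hs ht) hC₁.1 hC₁.2 hDTs hDTi
        have hG := pprime_trans hDTs hdia hC₁'
        obtain ⟨W, L₃, hL₃⟩ := exists_limit' hTp hDTs
        have hlt : Nat.card (C.hyperfocalSubgroup p) ≤ n := by
          have h1 : Nat.card (C.hyperfocalSubgroup p) < Nat.card S :=
            lt_of_le_of_ne (Subgroup.card_le_of_le hle) fun h =>
              hne (Subgroup.eq_of_le_of_card_ge hle h.ge)
          omega
        have h7 := ih hTp hlt DT C₁' hDTs hG L₃ L₁ hL₃ hL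
        exact h7.symm.trans (limit_ppow hS hD.1 hDTs hDTi h₂ hL₃).symm

/-- **Residual limits and subsystems of index prime to `p`.** -/
theorem limit_pidx [Fact p.Prime] {S : Subgroup Ω} [Finite S]
    (hS : IsPGroup p S) {C D : FusionSystem S} (hC : C.IsSaturated p) (hD : D.IsSaturated p)
    (hDC : D.HasPrimeToPIndexIn C p) {U V : Subgroup Ω} {L₁ : FusionSystem U} {L₂ : FusionSystem V}
    (h₁ : L₁.IsResidualLimitOf C p) (h₂ : L₂.IsResidualLimitOf D p) : HomEq L₁ L₂ := by
  obtain ⟨G, hG⟩ := S5140.result p hS C hC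
  have hG' := pprime_trans hD hDC hG
  obtain ⟨W, L₃, hL₃⟩ := exists_limit' hS hG.1
  exact (limit_pprime_residual _ hS le_rfl C G hC hG L₁ L₃ h₁ hL₃).trans
    (limit_pprime_residual _ hS le_rfl D G hD hG' L₂ L₃ h₂ hL₃).symm

/-- The residual limit is a subsystem. -/
theorem limit_sub {p : ℕ} {S U : Subgroup Ω} {L : FusionSystem U} {F : FusionSystem S}
    (h : L.IsResidualLimitOf F p) : L.IsSubsystemOf F := by
  induction h with
  | stable F p _ _ => exact fun _ => le_rfl
  | step F p D D' hD hD' hL ih =>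
    exact fun P => (ih P).trans ((hD'.2.1.1 P).trans (hD.2.1 P))

end Cfsg.Agent.H770
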