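import Cfsg.Agent.CpAutMSeven.Mat
import Cfsg.Agent.LThreeCo1.Ev

/-!
# `(7:3) x (7:3)` in `Co0` (helper770)

`r7` (cycle type `1^3 7^3`), `w = r7^3 * w0` (matrix), and two permutations `s`, `t` of order 3 of `M24` with
`s r s⁻¹ = r²`, `s w s⁻¹ = w`, `t w t⁻¹ = w²`, `t r t⁻¹ = r`.
-/

set_option autoImplicit false
set_option maxRecDepth 100000

namespace Cfsg.Agent.H770.MonSevMat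

open Cfsg Cfsg.Agent.SporadicStructure.Co0Matrix Cfsg.Agent.CoOneType.CoEval
open Cfsg.Agent.LThreeCo1.Ev

/-- matrix -/
def mR : List (List ℤ) := [
  [8, 0, 0, 0, 0, 0, 0, 0, 0, 0, 0, 0, 0, 0, 0, 0, 0, 0, 0, 0, 0, 0, 0, 0],
  [0, 8, 0, 0, 0, 0, 0, 0, 0, 0, 0, 0, 0, 0, 0, 0, 0, 0, 0, 0, 0, 0, 0, 0],
  [0, 0, 0, 0, 0, 0, 0, 0, 0, 0, 0, 8, 0, 0, 0, 0, 0, 0, 0, 0, 0, 0, 0, 0],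
  [0, 0, 0, 0, 0, 8, 0, 0, 0, 0, 0, 0, 0, 0, 0, 0, 0, 0, 0, 0, 0, 0, 0, 0],
  [0, 0, 0, 0, 0, 0, 0, 0, 0, 0, 8, 0, 0, 0, 0, 0, 0, 0, 0, 0, 0, 0, 0, 0],
  [0, 0, 0, 0, 0, 0, 0, 0, 0, 0, 0, 0, 0, 0, 0, 0, 0, 0, 0, 0, 0, 0, 0, 8],
  [0, 0, 0, 0, 0, 0, 0, 0, 0, 0, 0, 0, 0, 0, 0, 0, 8, 0, 0, 0, 0, 0, 0, 0],
  [0, 0, 0, 8, 0, 0, 0, 0, 0, 0, 0, 0, 0, 0, 0, 0, 0, 0, 0, 0, 0, 0, 0, 0],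
  [0, 0, 0, 0, 0, 0, 0, 0, 8, 0, 0, 0, 0, 0, 0, 0, 0, 0, 0, 0, 0, 0, 0, 0],
  [0, 0, 0, 0, 0, 0, 0, 8, 0, 0, 0, 0, 0, 0, 0, 0, 0, 0, 0, 0, 0, 0, 0, 0],
  [0, 0, 0, 0, 0, 0, 0, 0, 0, 0, 0, 0, 0, 0, 0, 0, 0, 0, 8, 0, 0, 0, 0, 0],
  [0, 0, 0, 0, 0, 0, 0, 0, 0, 0, 0, 0, 0, 0, 0, 0, 0, 0, 0, 0, 8, 0, 0, 0],
  [0, 0, 0, 0, 0, 0, 0, 0, 0, 0, 0, 0, 0, 0, 0, 8, 0, 0, 0, 0, 0, 0, 0, 0],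
  [0, 0, 0, 0, 0, 0, 0, 0, 0, 0, 0, 0, 0, 0, 8, 0, 0, 0, 0, 0, 0, 0, 0, 0],
  [0, 0, 0, 0, 0, 0, 0, 0, 0, 8, 0, 0, 0, 0, 0, 0, 0, 0, 0, 0, 0, 0, 0, 0],
  [0, 0, 0, 0, 0, 0, 8, 0, 0, 0, 0, 0, 0, 0, 0, 0, 0, 0, 0, 0, 0, 0, 0, 0],
  [0, 0, 0, 0, 0, 0, 0, 0, 0, 0, 0, 0, 0, 0, 0, 0, 0, 0, 0, 8, 0, 0, 0, 0],
  [0, 0, 0, 0, 0, 0, 0, 0, 0, 0, 0, 0, 0, 0, 0, 0, 0, 0, 0, 0, 0, 8, 0, 0],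
  [0, 0, 0, 0, 0, 0, 0, 0, 0, 0, 0, 0, 0, 0, 0, 0, 0, 0, 0, 0, 0, 0, 8, 0],
  [0, 0, 0, 0, 0, 0, 0, 0, 0, 0, 0, 0, 0, 0, 0, 0, 0, 8, 0, 0, 0, 0, 0, 0],
  [0, 0, 0, 0, 8, 0, 0, 0, 0, 0, 0, 0, 0, 0, 0, 0, 0, 0, 0, 0, 0, 0, 0, 0],
  [0, 0, 0, 0, 0, 0, 0, 0, 0, 0, 0, 0, 8, 0, 0, 0, 0, 0, 0, 0, 0, 0, 0, 0],
  [0, 0, 8, 0, 0, 0, 0, 0, 0, 0, 0, 0, 0, 0, 0, 0, 0, 0, 0, 0, 0, 0, 0, 0],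
  [0, 0, 0, 0, 0, 0, 0, 0, 0, 0, 0, 0, 0, 8, 0, 0, 0, 0, 0, 0, 0, 0, 0, 0]]

/-- matrix -/
def mW : List (List ℤ) := [
  [-4, -2, -2, 0, -2, 0, 0, 0, 4, 0, -2, -2, 0, 0, 0, 0, 0, 0, -2, 0, -2, 0, -2, 0],
  [-4, 2, 2, 0, 2, 0, 0, 0, 4, 0, 2, 2, 0, 0, 0, 0, 0, 0, 2, 0, 2, 0, 2, 0],
  [0, -2, 2, 4, -2, 0, 0, 0, 0, 0, 2, 2, 0, 0, 0, 0, 0, -4, -2, 0, 2, 0, -2, 0],
  [-2, 0, 0, -2, 0, 2, 2, -2, -2, -2, 0, 0, 2, -2, 2, -2, -2, -2, 0, -2, 0, 2, 0, 2],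
  [0, -2, 2, 0, 2, 0, 0, 0, 0, 0, 2, -2, 0, 4, 0, -4, 0, 0, 2, 0, -2, 0, -2, 0],
  [-2, 0, 0, -2, 0, -2, -2, -2, -2, 2, 0, 0, 2, 2, -2, 2, 2, -2, 0, -2, 0, -2, 0, 2],
  [0, 2, 2, 0, 2, 0, -4, 0, 0, 0, -2, -2, 0, 0, 4, 0, 0, 0, -2, 0, 2, 0, -2, 0],
  [-2, 0, 0, 2, 0, 2, -2, -2, -2, -2, 0, 0, -2, 2, -2, 2, -2, 2, 0, -2, 0, 2, 0, -2],
  [-2, 0, 0, 2, 0, 2, 2, 2, -2, 2, 0, 0, 2, 2, 2, 2, 2, 2, 0, 2, 0, 2, 0, 2],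
  [-2, 0, 0, 2, 0, -2, -2, 2, -2, -2, 0, 0, 2, -2, -2, -2, -2, 2, 0, 2, 0, -2, 0, 2],
  [0, -2, -2, 0, -2, 0, -4, 0, 0, 0, 2, 2, 0, 0, 4, 0, 0, 0, 2, 0, -2, 0, 2, 0],
  [0, -2, -2, 0, 2, 4, 0, 0, 0, 0, -2, 2, 0, 0, 0, 0, 0, 0, 2, 0, 2, -4, -2, 0],
  [0, 2, 2, 0, -2, 0, 0, 0, 0, 0, -2, 2, -4, 0, 0, 0, 0, 0, 2, 0, -2, 0, -2, 4],
  [-2, 0, 0, 2, 0, -2, 2, -2, -2, 2, 0, 0, -2, -2, 2, -2, 2, 2, 0, -2, 0, -2, 0, -2],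
  [-2, 0, 0, -2, 0, 2, -2, 2, -2, 2, 0, 0, -2, -2, -2, -2, 2, -2, 0, 2, 0, 2, 0, -2],
  [0, 2, -2, 0, -2, 0, 0, 0, 0, 0, -2, 2, 0, 4, 0, -4, 0, 0, -2, 0, 2, 0, 2, 0],
  [0, 2, -2, 0, 2, 0, 0, 0, 0, 4, 2, 2, 0, 0, 0, 0, -4, 0, -2, 0, -2, 0, -2, 0],
  [0, 2, -2, 4, 2, 0, 0, 0, 0, 0, -2, -2, 0, 0, 0, 0, 0, -4, 2, 0, -2, 0, 2, 0],
  [0, -2, 2, 0, -2, 0, 0, 0, 0, 4, -2, -2, 0, 0, 0, 0, -4, 0, 2, 0, 2, 0, 2, 0],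
  [0, 2, -2, 0, -2, 0, 0, 4, 0, 0, 2, -2, 0, 0, 0, 0, 0, 0, 2, -4, 2, 0, -2, 0],
  [0, -2, -2, 0, 2, 0, 0, 0, 0, 0, 2, -2, -4, 0, 0, 0, 0, 0, -2, 0, 2, 0, 2, 4],
  [0, 2, 2, 0, -2, 4, 0, 0, 0, 0, 2, -2, 0, 0, 0, 0, 0, 0, -2, 0, -2, -4, 2, 0],
  [0, -2, 2, 0, 2, 0, 0, 4, 0, 0, -2, 2, 0, 0, 0, 0, 0, 0, -2, -4, -2, 0, 2, 0],
  [-2, 0, 0, -2, 0, -2, 2, 2, -2, -2, 0, 0, -2, 2, 2, 2, -2, -2, 0, 2, 0, -2, 0, -2]]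

/-- matrix -/
def mS : List (List ℤ) := [
  [8, 0, 0, 0, 0, 0, 0, 0, 0, 0, 0, 0, 0, 0, 0, 0, 0, 0, 0, 0, 0, 0, 0, 0],
  [0, 8, 0, 0, 0, 0, 0, 0, 0, 0, 0, 0, 0, 0, 0, 0, 0, 0, 0, 0, 0, 0, 0, 0],
  [0, 0, 8, 0, 0, 0, 0, 0, 0, 0, 0, 0, 0, 0, 0, 0, 0, 0, 0, 0, 0, 0, 0, 0],
  [0, 0, 0, 8, 0, 0, 0, 0, 0, 0, 0, 0, 0, 0, 0, 0, 0, 0, 0, 0, 0, 0, 0, 0],
  [0, 0, 0, 0, 0, 0, 0, 0, 0, 0, 0, 0, 0, 0, 0, 0, 0, 0, 8, 0, 0, 0, 0, 0],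
  [0, 0, 0, 0, 0, 0, 0, 0, 0, 0, 0, 0, 0, 0, 8, 0, 0, 0, 0, 0, 0, 0, 0, 0],
  [0, 0, 0, 0, 0, 0, 0, 0, 0, 0, 0, 0, 8, 0, 0, 0, 0, 0, 0, 0, 0, 0, 0, 0],
  [0, 0, 0, 0, 0, 0, 0, 0, 0, 0, 0, 0, 0, 8, 0, 0, 0, 0, 0, 0, 0, 0, 0, 0],
  [0, 0, 0, 0, 0, 0, 0, 0, 8, 0, 0, 0, 0, 0, 0, 0, 0, 0, 0, 0, 0, 0, 0, 0],
  [0, 0, 0, 0, 0, 0, 0, 8, 0, 0, 0, 0, 0, 0, 0, 0, 0, 0, 0, 0, 0, 0, 0, 0],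
  [0, 0, 0, 0, 0, 0, 0, 0, 0, 0, 0, 0, 0, 0, 0, 0, 0, 0, 0, 0, 8, 0, 0, 0],
  [0, 0, 0, 0, 0, 0, 0, 0, 0, 0, 8, 0, 0, 0, 0, 0, 0, 0, 0, 0, 0, 0, 0, 0],
  [0, 0, 0, 0, 0, 0, 0, 0, 0, 0, 0, 0, 0, 0, 0, 0, 0, 0, 0, 0, 0, 8, 0, 0],
  [0, 0, 0, 0, 0, 0, 0, 0, 0, 8, 0, 0, 0, 0, 0, 0, 0, 0, 0, 0, 0, 0, 0, 0],
  [0, 0, 0, 0, 0, 0, 0, 0, 0, 0, 0, 0, 0, 0, 0, 0, 0, 0, 0, 0, 0, 0, 0, 8],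
  [0, 0, 0, 0, 0, 0, 0, 0, 0, 0, 0, 0, 0, 0, 0, 0, 8, 0, 0, 0, 0, 0, 0, 0],
  [0, 0, 0, 0, 0, 0, 0, 0, 0, 0, 0, 0, 0, 0, 0, 0, 0, 0, 0, 8, 0, 0, 0, 0],
  [0, 0, 0, 0, 0, 0, 0, 0, 0, 0, 0, 0, 0, 0, 0, 0, 0, 8, 0, 0, 0, 0, 0, 0],
  [0, 0, 0, 0, 0, 0, 0, 0, 0, 0, 0, 0, 0, 0, 0, 0, 0, 0, 0, 0, 0, 0, 8, 0],
  [0, 0, 0, 0, 0, 0, 0, 0, 0, 0, 0, 0, 0, 0, 0, 8, 0, 0, 0, 0, 0, 0, 0, 0],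
  [0, 0, 0, 0, 0, 0, 0, 0, 0, 0, 0, 8, 0, 0, 0, 0, 0, 0, 0, 0, 0, 0, 0, 0],
  [0, 0, 0, 0, 0, 0, 8, 0, 0, 0, 0, 0, 0, 0, 0, 0, 0, 0, 0, 0, 0, 0, 0, 0],
  [0, 0, 0, 0, 8, 0, 0, 0, 0, 0, 0, 0, 0, 0, 0, 0, 0, 0, 0, 0, 0, 0, 0, 0],
  [0, 0, 0, 0, 0, 8, 0, 0, 0, 0, 0, 0, 0, 0, 0, 0, 0, 0, 0, 0, 0, 0, 0, 0]]

/-- matrix -/
def mT : List (List ℤ) := [
  [0, 8, 0, 0, 0, 0, 0, 0, 0, 0, 0, 0, 0, 0, 0, 0, 0, 0, 0, 0, 0, 0, 0, 0],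
  [0, 0, 0, 0, 0, 0, 0, 0, 8, 0, 0, 0, 0, 0, 0, 0, 0, 0, 0, 0, 0, 0, 0, 0],
  [0, 0, 0, 8, 0, 0, 0, 0, 0, 0, 0, 0, 0, 0, 0, 0, 0, 0, 0, 0, 0, 0, 0, 0],
  [0, 0, 0, 0, 0, 0, 0, 0, 0, 0, 0, 0, 0, 0, 0, 0, 0, 8, 0, 0, 0, 0, 0, 0],
  [0, 0, 0, 0, 0, 0, 0, 0, 0, 0, 0, 0, 0, 8, 0, 0, 0, 0, 0, 0, 0, 0, 0, 0],
  [0, 0, 0, 0, 0, 0, 0, 0, 0, 0, 0, 0, 0, 0, 0, 0, 0, 0, 0, 0, 0, 8, 0, 0],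
  [0, 0, 0, 0, 0, 0, 0, 0, 0, 0, 8, 0, 0, 0, 0, 0, 0, 0, 0, 0, 0, 0, 0, 0],
  [0, 0, 0, 0, 0, 0, 0, 0, 0, 0, 0, 0, 0, 0, 0, 0, 0, 0, 0, 8, 0, 0, 0, 0],
  [8, 0, 0, 0, 0, 0, 0, 0, 0, 0, 0, 0, 0, 0, 0, 0, 0, 0, 0, 0, 0, 0, 0, 0],
  [0, 0, 0, 0, 0, 0, 0, 0, 0, 0, 0, 0, 0, 0, 0, 0, 8, 0, 0, 0, 0, 0, 0, 0],
  [0, 0, 0, 0, 0, 0, 0, 0, 0, 0, 0, 0, 0, 0, 8, 0, 0, 0, 0, 0, 0, 0, 0, 0],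
  [0, 0, 0, 0, 0, 8, 0, 0, 0, 0, 0, 0, 0, 0, 0, 0, 0, 0, 0, 0, 0, 0, 0, 0],
  [0, 0, 0, 0, 0, 0, 0, 0, 0, 0, 0, 0, 0, 0, 0, 0, 0, 0, 0, 0, 8, 0, 0, 0],
  [0, 0, 0, 0, 0, 0, 0, 0, 0, 0, 0, 0, 0, 0, 0, 8, 0, 0, 0, 0, 0, 0, 0, 0],
  [0, 0, 0, 0, 0, 0, 8, 0, 0, 0, 0, 0, 0, 0, 0, 0, 0, 0, 0, 0, 0, 0, 0, 0],
  [0, 0, 0, 0, 8, 0, 0, 0, 0, 0, 0, 0, 0, 0, 0, 0, 0, 0, 0, 0, 0, 0, 0, 0],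
  [0, 0, 0, 0, 0, 0, 0, 0, 0, 0, 0, 0, 0, 0, 0, 0, 0, 0, 8, 0, 0, 0, 0, 0],
  [0, 0, 8, 0, 0, 0, 0, 0, 0, 0, 0, 0, 0, 0, 0, 0, 0, 0, 0, 0, 0, 0, 0, 0],
  [0, 0, 0, 0, 0, 0, 0, 0, 0, 8, 0, 0, 0, 0, 0, 0, 0, 0, 0, 0, 0, 0, 0, 0],
  [0, 0, 0, 0, 0, 0, 0, 0, 0, 0, 0, 0, 0, 0, 0, 0, 0, 0, 0, 0, 0, 0, 8, 0],
  [0, 0, 0, 0, 0, 0, 0, 0, 0, 0, 0, 0, 0, 0, 0, 0, 0, 0, 0, 0, 0, 0, 0, 8],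
  [0, 0, 0, 0, 0, 0, 0, 0, 0, 0, 0, 8, 0, 0, 0, 0, 0, 0, 0, 0, 0, 0, 0, 0],
  [0, 0, 0, 0, 0, 0, 0, 8, 0, 0, 0, 0, 0, 0, 0, 0, 0, 0, 0, 0, 0, 0, 0, 0],
  [0, 0, 0, 0, 0, 0, 0, 0, 0, 0, 0, 0, 8, 0, 0, 0, 0, 0, 0, 0, 0, 0, 0, 0]]

theorem okR : Ok mR (tr mR) := Cfsg.Agent.CoOneType.CoFast.ok_of_okZ (by decide +kernel)

theorem okW : Ok mW (tr mW) := Cfsg.Agent.CoOneType.CoFast.ok_of_okZ (by decide +kernel)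

theorem okS : Ok mS (tr mS) := Cfsg.Agent.CoOneType.CoFast.ok_of_okZ (by decide +kernel)

theorem okT : Ok mT (tr mT) := Cfsg.Agent.CoOneType.CoFast.ok_of_okZ (by decide +kernel)

/-- the matrices -/
def M : ℕ → List (List ℤ)
  | 0 => mR
  | 1 => mW
  | 2 => mS
  | _ => mT

/-- the elements -/
def e : ℕ → Co0
  | 0 => mk okR
  | 1 => mk okW
  | 2 => mk okS
  | _ => mk okT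

theorem rep : ∀ i, Rep (e i) (M i)
  | 0 => rep_mk okR
  | 1 => rep_mk okW
  | 2 => rep_mk okS
  | _ + 3 => rep_mk okT

/-- `r` -/
def r : Co0 := mk okR
/-- `w` -/
def w : Co0 := mk okW
/-- `s` -/
def s : Co0 := mk okS
/-- `t` -/
def t : Co0 := mk okT

theorem r_pow : r ^ 7 = 1 := by
  have h := eq_of_eqB rep (w := [0, 0, 0, 0, 0, 0, 0]) (w' := []) (by decide +kernel)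
  simp only [List.map_cons, List.map_nil, List.prod_cons, List.prod_nil, mul_one] at h
  rw [← h]
  change r ^ 7 = r * (r * (r * (r * (r * (r * r)))))
  simp only [pow_succ, pow_zero, one_mul, mul_assoc]

theorem w_pow : w ^ 7 = 1 := by
  have h := eq_of_eqB rep (w := [1, 1, 1, 1, 1, 1, 1]) (w' := []) (by decide +kernel)
  simp only [List.map_cons, List.map_nil, List.prod_cons, List.prod_nil, mul_one] at h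
  rw [← h]
  change w ^ 7 = w * (w * (w * (w * (w * (w * w)))))
  simp only [pow_succ, pow_zero, one_mul, mul_assoc]

theorem s_pow : s ^ 3 = 1 := by
  have h := eq_of_eqB rep (w := [2, 2, 2]) (w' := []) (by decide +kernel)
  simp only [List.map_cons, List.map_nil, List.prod_cons, List.prod_nil, mul_one] at h
  rw [← h]
  change s ^ 3 = s * (s * s)
  simp only [pow_succ, pow_zero, one_mul, mul_assoc]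

theorem t_pow : t ^ 3 = 1 := by
  have h := eq_of_eqB rep (w := [3, 3, 3]) (w' := []) (by decide +kernel)
  simp only [List.map_cons, List.map_nil, List.prod_cons, List.prod_nil, mul_one] at h
  rw [← h]
  change t ^ 3 = t * (t * t)
  simp only [pow_succ, pow_zero, one_mul, mul_assoc]

theorem rw_comm : r * w = w * r := by
  have h := eq_of_eqB rep (w := [0, 1]) (w' := [1, 0]) (by decide +kernel)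
  simp only [List.map_cons, List.map_nil, List.prod_cons, List.prod_nil, mul_one] at h
  exact h

theorem st_comm : s * t = t * s := by
  have h := eq_of_eqB rep (w := [2, 3]) (w' := [3, 2]) (by decide +kernel)
  simp only [List.map_cons, List.map_nil, List.prod_cons, List.prod_nil, mul_one] at h
  exact h

theorem sr : s * r = r * r * s := by
  have h := eq_of_eqB rep (w := [2, 0]) (w' := [0, 0, 2]) (by decide +kernel)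
  simp only [List.map_cons, List.map_nil, List.prod_cons, List.prod_nil, mul_one] at h
  rw [mul_assoc]
  exact h

theorem sw : s * w = w * s := by
  have h := eq_of_eqB rep (w := [2, 1]) (w' := [1, 2]) (by decide +kernel)
  simp only [List.map_cons, List.map_nil, List.prod_cons, List.prod_nil, mul_one] at h
  exact h

theorem tw : t * w = w * w * t := by
  have h := eq_of_eqB rep (w := [3, 1]) (w' := [1, 1, 3]) (by decide +kernel)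
  simp only [List.map_cons, List.map_nil, List.prod_cons, List.prod_nil, mul_one] at h
  rw [mul_assoc]
  exact h

theorem tr_comm : t * r = r * t := by
  have h := eq_of_eqB rep (w := [3, 0]) (w' := [0, 3]) (by decide +kernel)
  simp only [List.map_cons, List.map_nil, List.prod_cons, List.prod_nil, mul_one] at h
  exact h

end Cfsg.Agent.H770.MonSevMat
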