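import Mathlib.GroupTheory.OrderOfElement
import Mathlib.Tactic.Group

/-!
# Lifting `SL₂(3)` and an inverting element through a central involution (helper770, for S5207)
-/

set_option autoImplicit false

namespace Cfsg.Agent.H770.MonThirAbs

variable {C X : Type*} [Group C] [Group X]

/-- The elements found in `C(z)`. -/
structure Dat (x z i j h s : C) : Prop where
  ix : i * x = x * i
  jx : j * x = x * j
  hx : h * x = x * h
  ii : i * i = z
  jj : j * j = z
  ij : i * j = j * i * z
  h3 : h * h * h = 1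
  hi : h * i * h⁻¹ = j
  hj : h * j * h⁻¹ = i * j
  sx : s * x * s⁻¹ = x⁻¹
  sz : s * z = z * s
  si : s * i = i * s
  sj : s * j = j * s
  ss : s * s = 1 ∨ s * s = z

theorem exists_dat (π : C →* X) {x z : C} (hz : ∀ c : C, c * z = z * c) (hzz : z * z = 1)
    (hπz : π z = 1)
    (K : ∀ c : C, c * x = x * c → π c = 1 → c = 1 ∨ c = z)
    (O : ∀ c : C, c * x = x * c → c * c = 1 → c = 1 ∨ c = z)
    {b c h0 s0 : X} (hb : b ≠ 1) (hbc : b * c ≠ 1) (bb : b * b = 1) (cc : c * c = 1)
    (bcbc : b * c * (b * c) = 1) (h03 : h0 * h0 * h0 = 1)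
    (h0b : h0 * b = c * h0) (h0c : h0 * c = b * c * h0) (s0b : s0 * b = b * s0) (s0c : s0 * c = c * s0)
    (s00 : s0 * s0 = 1)
    (Lb : ∃ i : C, i * x = x * i ∧ π i = b) (Lh : ∃ k : C, k * x = x * k ∧ π k = h0)
    (Ls : ∃ s : C, s * x * s⁻¹ = x⁻¹ ∧ π s = s0) :
    ∃ i j h s : C, Dat x z i j h s := by
  -- commuting is closed under products
  have cm : ∀ {a b : C}, a * x = x * a → b * x = x * b → (a * b) * x = x * (a * b) := by
    intro a b ha hb
    rw [mul_assoc, hb, ← mul_assoc, ha, mul_assoc]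
  have ci : ∀ {a : C}, a * x = x * a → a⁻¹ * x = x * a⁻¹ := fun {a} ha =>
    (show Commute a x from ha).inv_left.eq
  -- squares
  have sq : ∀ {a : C}, a * x = x * a → π a ≠ 1 → π a * π a = 1 → a * a = z := by
    intro a ha h1 h2
    refine (K _ (cm ha ha) (by rw [map_mul, h2])).resolve_left fun h3 => h1 ?_
    rcases O a ha h3 with h4 | h4
    · rw [h4, map_one]
    · rw [h4, hπz]
  -- equality up to `z`
  have eqz : ∀ {a b : C}, a * x = x * a → b * x = x * b → π a = π b → a = b ∨ a = b * z := by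
    intro a b ha hb hab
    rcases K (b⁻¹ * a) (cm (ci hb) ha) (by rw [map_mul, map_inv, hab, inv_mul_cancel]) with h1 | h1
    · left; rw [inv_mul_eq_one] at h1; exact h1.symm
    · right; rw [← h1, mul_inv_cancel_left]
  obtain ⟨i, hix, hib⟩ := Lb
  obtain ⟨k0, hk0x, hk0⟩ := Lh
  obtain ⟨s1, hs1x, hs1⟩ := Ls
  have hii : i * i = z := sq hix (by rw [hib]; exact hb) (by rw [hib, bb])
  -- the element of order 3
  obtain ⟨h, hh⟩ : ∃ h, h = (k0 * k0 * k0) * k0 := ⟨_, rfl⟩
  have hk3 : k0 * k0 * k0 = 1 ∨ k0 * k0 * k0 = z :=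
    K _ (cm (cm hk0x hk0x) hk0x) (by rw [map_mul, map_mul, hk0, h03])
  have hhx : h * x = x * h := by rw [hh]; exact cm (cm (cm hk0x hk0x) hk0x) hk0x
  have hπh : π h = h0 := by
    rw [hh, map_mul, map_mul, map_mul, hk0, h03, one_mul]
  have hh3 : h * h * h = 1 := by
    rcases hk3 with h1 | h1
    · rw [hh, h1, one_mul, h1]
    · rw [hh, h1]
      calc z * k0 * (z * k0) * (z * k0) = z * (k0 * z) * (k0 * z) * k0 := by group
        _ = z * (z * k0) * (z * k0) * k0 := by rw [hz k0]
        _ = (z * z) * (k0 * z) * k0 * k0 := by group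
        _ = z * (k0 * k0 * k0) := by rw [hzz, hz k0]; group
        _ = 1 := by rw [h1, hzz]
  obtain ⟨j, hj⟩ : ∃ j, j = h * i * h⁻¹ := ⟨_, rfl⟩
  obtain ⟨m, hm⟩ : ∃ m, m = h * j * h⁻¹ := ⟨_, rfl⟩
  have hjx : j * x = x * j := by rw [hj]; exact cm (cm hhx hix) (ci hhx)
  have hmx : m * x = x * m := by rw [hm]; exact cm (cm hhx hjx) (ci hhx)
  have hπj : π j = c := by
    rw [hj, map_mul, map_mul, map_inv, hπh, hib, h0b, mul_inv_cancel_right]
  have hπm : π m = b * c := by
    rw [hm, map_mul, map_mul, map_inv, hπh, hπj, h0c, mul_inv_cancel_right]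
  have cz : ∀ a : C, a * z * a⁻¹ = z := fun a => by rw [hz a, mul_inv_cancel_right]
  have hjj : j * j = z := by
    calc j * j = h * (i * i) * h⁻¹ := by rw [hj]; group
      _ = z := by rw [hii, cz]
  have hmm : m * m = z := by
    calc m * m = h * (j * j) * h⁻¹ := by rw [hm]; group
      _ = z := by rw [hjj, cz]
  have hzi : z⁻¹ = z := inv_eq_of_mul_eq_one_left hzz
  have hijij : i * j * (i * j) = z := by
    refine sq (cm hix hjx) ?_ ?_
    · rw [map_mul, hib, hπj]; exact hbc
    · rw [map_mul, hib, hπj, bcbc]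
  have inv_of : ∀ {a : C}, a * a = z → a⁻¹ = a * z := by
    intro a ha
    rw [inv_eq_iff_mul_eq_one, ← mul_assoc, ha, hzz]
  have anti : ∀ {a d : C}, a * a = z → d * d = z → a * d * (a * d) = z → a * d = d * a * z := by
    intro a d ha hd had
    have h1 : (a * d)⁻¹ = a * d * z := inv_of had
    have h2 : d * z * (a * z) = a * d * z := by rw [← h1, mul_inv_rev, inv_of ha, inv_of hd]
    calc a * d = a * d * z * z := by rw [mul_assoc (a * d), hzz, mul_one]
      _ = d * z * (a * z) * z := by rw [h2]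
      _ = d * (z * a) * (z * z) := by group
      _ = d * a * z := by rw [hzz, mul_one, ← hz a, mul_assoc]
  have hij : i * j = j * i * z := anti hii hjj hijij
  have hji : j * i = i * j * z := by rw [hij, mul_assoc, hzz, mul_one]
  -- `s`
  have exs : ∀ {i j : C}, i * x = x * i → j * x = x * j → i * i = z → j * j = z → i * j = j * i * z →
      s0 * π i = π i * s0 → s0 * π j = π j * s0 → π i * π i = 1 → π j * π j = 1 → π (i * j) * π (i * j) = 1 →
      ∃ s : C, s * x * s⁻¹ = x⁻¹ ∧ s * i = i * s ∧ s * j = j * s ∧ (s * s = 1 ∨ s * s = z) := by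
    intro i j hix hjx hii hjj hij hsi hsj h1 h2 h3
    have hji : j * i = i * j * z := by rw [hij, mul_assoc, hzz, mul_one]
    have back : ∀ {s : C}, s * x * s⁻¹ = x⁻¹ → ∀ {a : C}, a * x = x * a → (s * a * s⁻¹) * x = x * (s * a * s⁻¹) := by
      intro s hs a ha
      have e1 : (s * a * s⁻¹) * x⁻¹ = x⁻¹ * (s * a * s⁻¹) := by
        rw [← hs]
        calc s * a * s⁻¹ * (s * x * s⁻¹) = s * (a * x) * s⁻¹ := by group
          _ = s * (x * a) * s⁻¹ := by rw [ha]
          _ = s * x * s⁻¹ * (s * a * s⁻¹) := by group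
      have e2 : Commute (s * a * s⁻¹) x⁻¹ := e1
      exact (by simpa using e2.inv_right : Commute (s * a * s⁻¹) x).eq
    have e1 : s1 * i * s1⁻¹ = i ∨ s1 * i * s1⁻¹ = i * z := by
      refine eqz (back hs1x hix) hix ?_
      rw [map_mul, map_mul, map_inv, hs1, hsi, mul_inv_cancel_right]
    have e2 : s1 * j * s1⁻¹ = j ∨ s1 * j * s1⁻¹ = j * z := by
      refine eqz (back hs1x hjx) hjx ?_
      rw [map_mul, map_mul, map_inv, hs1, hsj, mul_inv_cancel_right]
    -- the adjusted element
    have fin : ∀ q : C, q * x = x * q → s0 * π q = π q * s0 → π q * π q = 1 →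
        s1 * (q * i * q⁻¹) * s1⁻¹ = i → s1 * (q * j * q⁻¹) * s1⁻¹ = j →
        ∃ s : C, s * x * s⁻¹ = x⁻¹ ∧ s * i = i * s ∧ s * j = j * s ∧ (s * s = 1 ∨ s * s = z) := by
      intro q hq hsq hqq hi hj
      have hsx : (s1 * q) * x * (s1 * q)⁻¹ = x⁻¹ := by
        calc (s1 * q) * x * (s1 * q)⁻¹ = s1 * (q * x) * q⁻¹ * s1⁻¹ := by group
          _ = s1 * x * s1⁻¹ := by rw [hq]; group
          _ = x⁻¹ := hs1x
      refine ⟨s1 * q, hsx, ?_, ?_, ?_⟩
      · rw [← mul_inv_eq_iff_eq_mul]
        calc (s1 * q) * i * (s1 * q)⁻¹ = s1 * (q * i * q⁻¹) * s1⁻¹ := by group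
          _ = i := hi
      · rw [← mul_inv_eq_iff_eq_mul]
        calc (s1 * q) * j * (s1 * q)⁻¹ = s1 * (q * j * q⁻¹) * s1⁻¹ := by group
          _ = j := hj
      · refine K _ ?_ ?_
        · have e3 : (s1 * q) * x⁻¹ * (s1 * q)⁻¹ = x := by
            have := congrArg (·⁻¹) hsx
            simp only [mul_inv_rev, inv_inv] at this
            calc (s1 * q) * x⁻¹ * (s1 * q)⁻¹ = s1 * q * (x⁻¹ * (q⁻¹ * s1⁻¹)) := by group
              _ = x := this
          rw [← mul_inv_eq_iff_eq_mul]
          calc (s1 * q) * (s1 * q) * x * ((s1 * q) * (s1 * q))⁻¹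
              = (s1 * q) * ((s1 * q) * x * (s1 * q)⁻¹) * (s1 * q)⁻¹ := by group
            _ = x := by rw [hsx, e3]
        · rw [map_mul, map_mul, hs1]
          calc s0 * π q * (s0 * π q) = s0 * (π q * s0) * π q := by group
            _ = (s0 * s0) * (π q * π q) := by rw [← hsq]; group
            _ = 1 := by rw [s00, hqq, mul_one]
    have hiji : i * j * i⁻¹ = j * z := by rw [mul_inv_eq_iff_eq_mul, hij, mul_assoc, mul_assoc, hz i]
    have hjij : j * i * j⁻¹ = i * z := by rw [mul_inv_eq_iff_eq_mul, hji, mul_assoc, mul_assoc, hz j]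
    have cz' : ∀ a d : C, a * (d * z) * a⁻¹ = a * d * a⁻¹ * z := by
      intro a d
      calc a * (d * z) * a⁻¹ = a * d * (z * a⁻¹) := by group
        _ = a * d * a⁻¹ * z := by rw [← hz a⁻¹]; group
    have zz' : ∀ a : C, a * z * z = a := fun a => by rw [mul_assoc, hzz, mul_one]
    rcases e1 with e1 | e1 <;> rcases e2 with e2 | e2
    · exact fin 1 (by simp) (by simp) (by simp) (by simpa using e1) (by simpa using e2)
    · refine fin i hix hsi h1 ?_ ?_
      · rw [mul_inv_cancel_right]; exact e1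
      · rw [hiji, cz', e2, zz']
    · refine fin j hjx hsj h2 ?_ ?_
      · rw [hjij, cz', e1, zz']
      · rw [mul_inv_cancel_right]; exact e2
    · refine fin (i * j) (cm hix hjx) ?_ h3 ?_ ?_
      · rw [map_mul, ← mul_assoc, hsi, mul_assoc, hsj, mul_assoc]
      · have : i * j * i * (i * j)⁻¹ = i * z := by
          calc i * j * i * (i * j)⁻¹ = i * (j * i * j⁻¹) * i⁻¹ := by group
            _ = i * z := by rw [hjij, cz', mul_inv_cancel_right]
        rw [this, cz', e1, zz']
      · have : i * j * j * (i * j)⁻¹ = j * z := by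
          calc i * j * j * (i * j)⁻¹ = i * j * i⁻¹ := by group
            _ = j * z := hiji
        rw [this, cz', e2, zz']
  rcases eqz hmx (cm hix hjx) (by rw [hπm, map_mul, hib, hπj]) with h1 | h1
  · obtain ⟨s, hs1, hs2, hs3, hs4⟩ := exs hix hjx hii hjj hij (by rw [hib, s0b]) (by rw [hπj, s0c])
      (by rw [hib, bb]) (by rw [hπj, cc]) (by rw [map_mul, hib, hπj, bcbc])
    refine ⟨i, j, h, s, ?_⟩
    exact
      { ix := hix, jx := hjx, hx := hhx, ii := hii, jj := hjj, ij := hij, h3 := hh3, hi := hj.symm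
        hj := by rw [← hm, h1]
        sx := hs1, sz := hz s, si := hs2, sj := hs3, ss := hs4 }
  · -- `m = j i`
    have hmji : m = j * i := by rw [h1, hji]
    have h2 : h * h = h⁻¹ := by rw [eq_inv_iff_mul_eq_one, hh3]
    have hmi : h * m * h⁻¹ = i := by
      calc h * m * h⁻¹ = (h * h) * (h * i * h⁻¹) * (h * h)⁻¹ := by rw [hm, hj]; group
        _ = h⁻¹ * (h * i * h⁻¹) * h := by rw [h2]; group
        _ = i := by group
    have him : i * m * (i * m) = z := by
      have e1 : i * m = j := by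
        calc i * m = i * (j * i) := by rw [hmji]
          _ = (i * i) * (j * z) := by rw [hji]; group
          _ = j * (z * z) := by rw [hii, ← mul_assoc, ← hz j]; group
          _ = j := by rw [hzz, mul_one]
      rw [e1, hjj]
    have e1 : i * m = j := by
      calc i * m = i * (j * i) := by rw [hmji]
        _ = (i * i) * (j * z) := by rw [hji]; group
        _ = j * (z * z) := by rw [hii, ← mul_assoc, ← hz j]; group
        _ = j := by rw [hzz, mul_one]
    obtain ⟨s, hs1, hs2, hs3, hs4⟩ := exs hix hmx hii hmm (anti hii hmm him) (by rw [hib, s0b])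
      (by rw [hπm, ← mul_assoc, s0b, mul_assoc, s0c, mul_assoc])
      (by rw [hib, bb]) (by rw [hπm, bcbc]) (by rw [e1, hπj, cc])
    refine ⟨i, m, h⁻¹, s, ?_⟩
    exact
      { ix := hix, jx := hmx, hx := ci hhx, ii := hii, jj := hmm, ij := anti hii hmm him
        h3 := by
          have := congrArg (·⁻¹) hh3
          simpa [mul_inv_rev, mul_assoc] using this
        hi := by rw [inv_inv, ← hmi]; group
        hj := by rw [inv_inv, e1, hm]; group
        sx := hs1, sz := hz s, si := hs2, sj := hs3, ss := hs4 }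

end Cfsg.Agent.H770.MonThirAbs
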