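import Cfsg.Agent.H770.MonThirLoc
import Cfsg.Agent.H770.MonThirSq
import Cfsg.Agent.H773.MonOdd
import Cfsg.Agent.H757.RvMon
import Cfsg.Agent.MonsterX.InstanceFinal
import Cfsg.Agent.MonsterX.MainPack

/-!
# The Monster at the prime 13 (helper770, for S5207)
-/

set_option autoImplicit false

namespace Cfsg.Agent.H770.MonThirFin

open Subgroup Cfsg
open Cfsg.Agent.MonsterU Cfsg.Agent.MonsterX
open Cfsg.Agent.MonsterX.MainPack Cfsg.Agent.MonsterX.MainSimple Cfsg.Agent.MonsterX.MainBasic

universe u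

/-- An involution inverting an element of order 13 is conjugate to `z`. -/
theorem inv_conj {G : Type*} [Group G] {t z : G} (six : ∀ g : G, orderOf (t * (g * t * g⁻¹)) ≤ 6)
    (cl : ∀ u : G, u * u = 1 → u ≠ 1 → (∃ h, h * z * h⁻¹ = u) ∨ ∃ h, h * t * h⁻¹ = u) {s x : G} (hs : s * s = 1)
    (hx : orderOf x = 13) (hinv : s * x * s⁻¹ = x⁻¹) : ∃ c, c * s * c⁻¹ = z := by
  have hs1 : s ≠ 1 := by
    rintro rfl
    rw [one_mul, inv_one, mul_one, eq_inv_iff_mul_eq_one] at hinv
    have h1 := orderOf_dvd_of_pow_eq_one ((pow_two x).trans hinv)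
    rw [hx] at h1
    norm_num at h1
  rcases cl s hs hs1 with ⟨h, rfl⟩ | ⟨h, rfl⟩
  · exact ⟨h⁻¹, by group⟩
  · exfalso
    set s := h * t * h⁻¹ with hsd
    have h1 : s * x = x⁻¹ * s := by rw [← hinv]; group
    have hp : ∀ n : ℕ, s * x ^ n = (x⁻¹) ^ n * s := by
      intro n
      induction n with
      | zero => simp
      | succ n ih => rw [pow_succ, ← mul_assoc, ih, mul_assoc, h1, ← mul_assoc, ← pow_succ]
    -- `s x` is the conjugate of `s` by `x ^ 6`
    have h2 : x ^ 6 * s * (x ^ 6)⁻¹ = s * x := by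
      have h3 : x ^ 13 = 1 := by rw [← hx, pow_orderOf_eq_one]
      have h4 : (x ^ 6)⁻¹ = x ^ 7 := by
        rw [inv_eq_iff_mul_eq_one, ← pow_add]
        exact h3
      rw [h4, mul_assoc, hp 7, ← mul_assoc, h1]
      congr 1
      rw [inv_pow, mul_inv_eq_iff_eq_mul, eq_inv_mul_iff_mul_eq]
      rw [← pow_succ']
    have h5 := six (h⁻¹ * x ^ 6 * h)
    have h6 : h * (t * (h⁻¹ * x ^ 6 * h * t * (h⁻¹ * x ^ 6 * h)⁻¹)) * h⁻¹ = x := by
      calc h * (t * (h⁻¹ * x ^ 6 * h * t * (h⁻¹ * x ^ 6 * h)⁻¹)) * h⁻¹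
          = s * (x ^ 6 * s * (x ^ 6)⁻¹) := by rw [hsd]; group
        _ = x := by rw [h2, ← mul_assoc, hs, one_mul]
    have h7 : orderOf x = orderOf (t * (h⁻¹ * x ^ 6 * h * t * (h⁻¹ * x ^ 6 * h)⁻¹)) := by
      conv_lhs => rw [← h6]
      exact (MulAut.conj h).orderOf_eq _
    omega

/-- if `p ^ 2` does not divide `|H|` then elements of order `p` are conjugate into `⟨x⟩` (copy of
`H757.ThF.conj_of_prime`) -/
theorem conj_of_prime {H : Type u} [Group H] [Finite H] {p : ℕ} (hp : p.Prime) (hH : ¬ p ^ 2 ∣ Nat.card H)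
    {x u : H} (hx : orderOf x = p) (hu : u ^ p = 1) : ∃ g : H, g * u * g⁻¹ ∈ zpowers x := by
  have : Fact p.Prime := ⟨hp⟩
  have h1 : IsPGroup p (zpowers x) := IsPGroup.of_card (n := 1) (by rw [Nat.card_zpowers, hx, pow_one])
  have h2 : ¬ p ∣ (zpowers x).index := by
    rintro ⟨k, hk⟩
    apply hH
    rw [← card_mul_index (zpowers x), Nat.card_zpowers, hx, hk]
    exact ⟨k, by ring⟩
  have h3 : IsPGroup p (zpowers u) := by
    have h4 : Nat.card (zpowers u) ∣ p := by rw [Nat.card_zpowers]; exact orderOf_dvd_of_pow_eq_one hu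
    obtain ⟨k, -, hk⟩ := (Nat.dvd_prime_pow hp).1 (by rw [pow_one]; exact h4 : Nat.card (zpowers u) ∣ p ^ 1)
    exact IsPGroup.of_card hk
  obtain ⟨R, hR⟩ := h3.exists_le_sylow
  obtain ⟨g, hg⟩ := MulAction.exists_smul_eq H R (h1.toSylow h2)
  refine ⟨g, ?_⟩
  have h4 : u ∈ R := hR (mem_zpowers u)
  have h5 : g * u * g⁻¹ ∈ g • R := by
    show g * u * g⁻¹ ∈ ((g • R : Sylow p H) : Subgroup H)
    rw [Sylow.coe_subgroup_smul, Subgroup.mem_pointwise_smul_iff_inv_smul_mem]
    have h6 : (MulAut.conj g)⁻¹ • (g * u * g⁻¹) = u := by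
      rw [← map_inv, MulAut.smul_def, MulAut.conj_apply]; group
    rw [h6]
    exact h4
  rw [hg] at h5
  exact (IsPGroup.mem_toSylow _ _).1 h5

/-- the squares of the products of the three involutions (copy of `H757.ThF.pairs`) -/
theorem pairs {G : Type*} [Group G] {z i j g : G} (hzz : z * z = 1) (ii : i * i = z) (jj : j * j = z)
    (ij : i * j = j * i * z) (hgg : g * g = z)
    (hgi : g * i = i * g) (hgj : g * j = j * g) (a b : Fin 3) (hab : a ≠ b) :
    (![g * i, g * j, g * (i * j)] a * ![g * i, g * j, g * (i * j)] b) *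
      (![g * i, g * j, g * (i * j)] a * ![g * i, g * j, g * (i * j)] b) = z := by
  have hzi : z * i = i * z := by rw [← ii, mul_assoc]
  have hzj : z * j = j * z := by rw [← jj, mul_assoc]
  have hji : j * i = i * j * z := by rw [ij, mul_assoc, hzz, mul_one]
  have hzij : z * (i * j) = i * j * z := by rw [← mul_assoc, hzi, mul_assoc, hzj, mul_assoc]
  have hgij : g * (i * j) = i * j * g := by rw [← mul_assoc, hgi, mul_assoc, hgj, mul_assoc]
  have hijij : i * j * (i * j) = z := by
    calc i * j * (i * j) = i * (j * i) * j := by group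
      _ = (i * i) * j * (z * j) := by rw [hji]; group
      _ = z * (j * j) * z := by rw [hzj, ii]; group
      _ = z := by rw [jj, hzz, one_mul]
  -- reduction to the quaternion group
  have key : ∀ c d : G, g * c = c * g → z * c = c * z → z * d = d * z → (c * d) * (c * d) = z →
      (g * c * (g * d)) * (g * c * (g * d)) = z := by
    intro c d hc hzc hzd hcd
    have h1 : g * c * (g * d) = z * (c * d) := by
      calc g * c * (g * d) = g * (c * g) * d := by group
        _ = (g * g) * c * d := by rw [← hc]; group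
        _ = z * (c * d) := by rw [hgg]; group
    have h2 : z * (c * d) = (c * d) * z := by rw [← mul_assoc, hzc, mul_assoc, hzd, mul_assoc]
    rw [h1]
    calc z * (c * d) * (z * (c * d)) = z * ((c * d) * z) * (c * d) := by group
      _ = (z * z) * ((c * d) * (c * d)) := by rw [← h2]; group
      _ = z := by rw [hzz, hcd, one_mul]
  have p1 : (j * i) * (j * i) = z := by
    rw [hji]
    calc i * j * z * (i * j * z) = (i * j) * (z * (i * j)) * z := by group
      _ = (i * j * (i * j)) * (z * z) := by rw [hzij]; group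
      _ = z := by rw [hijij, hzz, mul_one]
  have p2 : (i * (i * j)) * (i * (i * j)) = z := by
    have e : i * (i * j) = z * j := by rw [← mul_assoc, ii]
    rw [e]
    calc z * j * (z * j) = z * (j * z) * j := by group
      _ = (z * z) * (j * j) := by rw [← hzj]; group
      _ = z := by rw [hzz, jj, one_mul]
  have p3 : ((i * j) * i) * ((i * j) * i) = z := by
    have e : (i * j) * i = j := by
      calc (i * j) * i = i * (j * i) := by group
        _ = (i * i) * j * z := by rw [hji]; group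
        _ = (z * j) * z := by rw [ii]
        _ = j * (z * z) := by rw [hzj]; group
        _ = j := by rw [hzz, mul_one]
    rw [e, jj]
  have p4 : (j * (i * j)) * (j * (i * j)) = z := by
    have e : j * (i * j) = i := by
      calc j * (i * j) = (j * i) * j := by group
        _ = i * j * (z * j) := by rw [hji]; group
        _ = i * (j * j) * z := by rw [hzj]; group
        _ = i * (z * z) := by rw [jj]; group
        _ = i := by rw [hzz, mul_one]
    rw [e, ii]
  have p5 : ((i * j) * j) * ((i * j) * j) = z := by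
    have e : (i * j) * j = i * z := by rw [mul_assoc, jj]
    rw [e]
    calc i * z * (i * z) = i * (z * i) * z := by group
      _ = (i * i) * (z * z) := by rw [hzi]; group
      _ = z := by rw [hzz, ii, mul_one]
  fin_cases a <;> fin_cases b
  · exact absurd rfl hab
  · exact key i j hgi hzi hzj hijij
  · exact key i (i * j) hgi hzi hzij p2
  · exact key j i hgj hzj hzi p1
  · exact absurd rfl hab
  · exact key j (i * j) hgj hzj hzij p4
  · exact key (i * j) i hgij hzij hzi p3
  · exact key (i * j) j hgij hzij hzj p5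
  · exact absurd rfl hab

theorem sq_aux {G : Type*} [Group G] {a b z : G} (hab : a * b = b * a) (haa : a * a = z) (hbb : b * b = z)
    (hzz : z * z = 1) : a * b * (a * b) = 1 := by
  calc a * b * (a * b) = a * (b * a) * b := by group
    _ = (a * a) * (b * b) := by rw [← hab]; group
    _ = 1 := by rw [haa, hbb, hzz]

/-- the nonabelian case (`H757.RvT.Out.three` with the fusion hypothesis for the three involutions only) -/
theorem three {G : Type u} [Group G] {p : ℕ} {x z : G} {P : Sylow p G} {O : Subgroup G} [Finite G]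
    (h : H757.RvT.Out p x z P O) (hpp : p.Prime) (hp : Odd p) (hxo : orderOf x = p)
    (hnab : ∃ a ∈ P, ∃ b ∈ P, a * b ≠ b * a) (w : Fin 3 → G) (hww : ∀ a, w a * w a = 1)
    (hwx : ∀ a, w a * x * (w a)⁻¹ = x⁻¹) (hwz : ∀ a b, a ≠ b → w a * w b * (w a * w b) = z)
    (hconj : ∀ g ∈ P, g ≠ 1 → ∀ a, w a * g = g * w a → ∃ k : ℤ, IsConj g (x ^ k)) :
    H773.Rv.Three (P : Subgroup G) := by
  have hex : ∀ a, ∃ g ∈ P, g ≠ 1 ∧ w a * g = g * w a := fun a => h.exists_fixed hnab (hww a) (hwx a)
  choose g hgP hg1 hgw using hex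
  have hgx : ∀ a, g a ∉ zpowers x := by
    intro a ha
    apply hg1 a
    refine H757.RvT.eq_one_of_sq hp hxo ha ?_
    obtain ⟨k, hk⟩ := ha
    have h1 : w a * g a * (w a)⁻¹ = (g a)⁻¹ := by
      rw [← hk]
      show w a * x ^ k * (w a)⁻¹ = (x ^ k)⁻¹
      rw [← conj_zpow, hwx, inv_zpow]
    rw [hgw, mul_inv_cancel_right] at h1
    rw [mul_eq_one_iff_eq_inv]
    exact h1
  have hnc : ∀ a b, a ≠ b → g a * g b ≠ g b * g a := fun a b hab =>
    h.not_comm hpp hp hxo hnab (hwx a) (hwx b) (hwz a b hab) (hgP a) (hgP b) (hgx a) (hgx b) (hgw a) (hgw b)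
  refine ⟨g 0, hgP 0, g 1, hgP 1, g 2, hgP 2, hnc 0 1 (by decide), hnc 1 2 (by decide),
    hnc 0 2 (by decide), ?_⟩
  have hall : ∀ a, ∃ y ∈ (P : Subgroup G), H773.Rv.InZ (P : Subgroup G) y ∧ IsConj (g a) y := by
    intro a
    obtain ⟨k, hk⟩ := hconj (g a) (hgP a) (hg1 a) a (hgw a)
    refine ⟨x ^ k, zpow_mem h.xP k, ?_, hk⟩
    intro s hs
    exact H757.RvT.comm_zpow (h.cent s hs) ⟨k, rfl⟩
  rintro y (rfl | rfl | rfl)
  · exact hall 0
  · exact hall 1
  · exact hall 2

theorem card_conj {G : Type*} [Group G] {c t z : G} (h : c * t * c⁻¹ = z) :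
    Nat.card (centralizer ({t} : Set G)) = Nat.card (centralizer ({z} : Set G)) := by
  refine Nat.card_congr (Equiv.subtypeEquiv (MulAut.conj c).toEquiv ?_)
  intro a
  rw [mem_centralizer_singleton_iff, mem_centralizer_singleton_iff]
  show _ ↔ (c * a * c⁻¹) * z = z * (c * a * c⁻¹)
  rw [← h]
  constructor
  · intro h1
    calc c * a * c⁻¹ * (c * t * c⁻¹) = c * (a * t) * c⁻¹ := by group
      _ = c * (t * a) * c⁻¹ := by rw [h1]
      _ = c * t * c⁻¹ * (c * a * c⁻¹) := by group
  · intro h1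
    have h2 : c * (a * t) * c⁻¹ = c * (t * a) * c⁻¹ := by
      calc c * (a * t) * c⁻¹ = c * a * c⁻¹ * (c * t * c⁻¹) := by group
        _ = c * t * c⁻¹ * (c * a * c⁻¹) := h1
        _ = c * (t * a) * c⁻¹ := by group
    exact mul_left_cancel (mul_right_cancel h2)

/-- **TargetThree 13**, given the two matrix computations. -/
theorem target_of (H1 : H757.RvM.Step1) (H3 : H757.RvM.Step3) [Fact (Nat.Prime 13)] : H773.Rv.TargetThree 13 := by
  have hf := MFive.Row.finite_model
  obtain ⟨x, i, j, h, s, hxo, hxz, hzz, hz1, only, D⟩ := MonThirLoc.model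
  obtain ⟨z, hz⟩ : ∃ z, z = KDone.K.z := ⟨_, rfl⟩
  have h13 : Nat.Prime 13 := by norm_num
  have hx13 : x ^ 13 = 1 := by rw [← hxo, pow_orderOf_eq_one]
  have hhz : h * KDone.K.z = KDone.K.z * h := by
    rw [← mul_inv_eq_iff_eq_mul]
    calc h * KDone.K.z * h⁻¹ = h * (i * i) * h⁻¹ := by rw [D.ii]
      _ = (h * i * h⁻¹) * (h * i * h⁻¹) := by group
      _ = KDone.K.z := by rw [D.hi, D.jj]
  have odd := H773.Mon13.odd_model hxo hxz D.ix D.jx D.hx hhz D.ii D.jj D.ij
    (by rw [pow_succ, pow_two]; exact D.h3) D.hi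
  have hcz : ¬ 13 ^ 2 ∣ Nat.card (centralizer ({KDone.K.z} : Set ↥InstData.M.G)) :=
    H773.Mon13.not_sq_cz KDone.lft MFive.Row.hc
  have two := MFive.Row.two
  have six : ∀ g : ↥InstData.M.G, orderOf (tG KDone.mGroup KDone.mRep * (g * tG KDone.mGroup KDone.mRep * g⁻¹)) ≤ 6 :=
    MonsterX.MainPack.six KDone.mGroup KDone.mRep KDone.mLat Uncond.mOrbit Instance.mTrans
      Cfsg.Agent.MonsterX.InstanceFinal.mExtra.order_le
  have hcard : Nat.card ↥InstData.M.G = 808017424794512875886459904961710757005754368000000000 :=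
    Cfsg.Agent.MonsterP.EquivOf.isM_model.2
  rw [← hz] at hxz hzz hz1 only D hhz odd hcz two
  have hinv : ∀ t : ↥InstData.M.G, t * t = 1 → t * x * t⁻¹ = x⁻¹ → ∃ c, c * t * c⁻¹ = z := fun t ht htx =>
    inv_conj six two ht hxo htx
  have hconj : ∀ a : ↥InstData.M.G, a ^ 13 = 1 → ∀ t : ↥InstData.M.G, t * t = 1 → t * x * t⁻¹ = x⁻¹ → t * a = a * t →
      ∃ c : ↥InstData.M.G, c * t * c⁻¹ = z ∧ c * a * c⁻¹ ∈ zpowers x := by
    intro a ha t ht htx hta
    obtain ⟨c, hc⟩ := hinv t ht htx
    have h2 : (c * a * c⁻¹) * z = z * (c * a * c⁻¹) := by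
      rw [← hc]
      calc (c * a * c⁻¹) * (c * t * c⁻¹) = c * (a * t) * c⁻¹ := by group
        _ = c * (t * a) * c⁻¹ := by rw [hta]
        _ = (c * t * c⁻¹) * (c * a * c⁻¹) := by group
    obtain ⟨d, k, hk⟩ := conj_of_prime (H := centralizer ({z} : Set ↥InstData.M.G)) h13 hcz
      (x := ⟨x, mem_centralizer_singleton_iff.2 hxz⟩)
      (u := ⟨c * a * c⁻¹, mem_centralizer_singleton_iff.2 h2⟩)
      (by rw [← Subgroup.orderOf_coe]; exact hxo)
      (Subtype.ext (by
        show (c * a * c⁻¹) ^ 13 = 1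
        rw [conj_pow, ha, mul_one, mul_inv_cancel]))
    refine ⟨d * c, ?_, k, ?_⟩
    · have h3 : (d : ↥InstData.M.G) * z = z * d := mem_centralizer_singleton_iff.1 d.2
      calc d * c * t * (d * c)⁻¹ = d * (c * t * c⁻¹) * (d : ↥InstData.M.G)⁻¹ := by group
        _ = z := by rw [hc, h3, mul_inv_cancel_right]
    · have h3 : x ^ k = (d : ↥InstData.M.G) * (c * a * c⁻¹) * (d : ↥InstData.M.G)⁻¹ := congrArg Subtype.val hk
      show x ^ k = d * c * a * (d * c)⁻¹
      rw [h3]; group
  have hyp : H757.RvT.Hyp 13 x z i j :=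
    { xo := hxo, zz := hzz, z1 := hz1, xz := hxz, only := only, ix := D.ix, jx := D.jx, ii := D.ii, jj := D.jj
      ij := D.ij, odd := odd }
  obtain ⟨P, O, out⟩ := H757.RvT.exists_out hyp h13 (by decide) (by rw [hcard]; norm_num)
    (by rw [hcard]; norm_num) hcz
  have hss : s * s = z := MonThirSq.sq_eq out h13 (by decide) hxo hzz hxz D.ix D.jx D.ii D.jj D.ij D.sx D.sz D.si D.sj
    D.ss (fun t ht htx => by
      obtain ⟨c, hc⟩ := hinv t ht htx
      rw [card_conj hc]
      exact hcz)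
  refine ⟨↥InstData.M.G, inferInstance, hf, P, out.card, out.exp, ?_⟩
  by_cases hab : ∀ a ∈ P, ∀ b ∈ P, a * b = b * a
  · -- the abelian case is impossible
    exfalso
    exact H757.RvM.MD.false_of H1 H3 (x := x) (z := z) (i := i) (j := j) (h := h) (s := s) (P := P) (O := O)
      { hyp := hyp
        out := out
        hx := D.hx
        h3 := D.h3
        hi := D.hi
        hj := D.hj
        sx := D.sx
        ss := hss
        si := D.si
        sj := D.sj
        conj := fun a ha _ t ht htx hta => hconj a (out.exp a ha) t ht htx hta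
        n61 := by rw [hcard]; norm_num } hab
  · push Not at hab
    have hzi : z * i = i * z := by rw [← hyp.ii, mul_assoc]
    have hzj : z * j = j * z := by rw [← hyp.jj, mul_assoc]
    have hsij : s * (i * j) = (i * j) * s := by rw [← mul_assoc, D.si, mul_assoc, D.sj, mul_assoc]
    have hijij : i * j * (i * j) = z := by
      have hji : j * i = i * j * z := by rw [hyp.ij, mul_assoc, hyp.zz, mul_one]
      calc i * j * (i * j) = i * (j * i) * j := by group
        _ = (i * i) * j * (z * j) := by rw [hji]; group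
        _ = z * (j * j) * z := by rw [hzj, hyp.ii]; group
        _ = z := by rw [hyp.jj, hyp.zz, one_mul]
    have hijx : (i * j) * x = x * (i * j) := by rw [mul_assoc, hyp.jx, ← mul_assoc, hyp.ix, mul_assoc]
    have hsc : ∀ c : ↥InstData.M.G, c * x = x * c → (s * c) * x * (s * c)⁻¹ = x⁻¹ := by
      intro c hc
      calc (s * c) * x * (s * c)⁻¹ = s * (c * x) * c⁻¹ * s⁻¹ := by group
        _ = s * x * s⁻¹ := by rw [hc]; group
        _ = x⁻¹ := D.sx
    have hwx : ∀ a, ![s * i, s * j, s * (i * j)] a * x * (![s * i, s * j, s * (i * j)] a)⁻¹ = x⁻¹ := by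
      intro a
      fin_cases a
      · exact hsc i hyp.ix
      · exact hsc j hyp.jx
      · exact hsc _ hijx
    have hww : ∀ a, ![s * i, s * j, s * (i * j)] a * ![s * i, s * j, s * (i * j)] a = 1 := by
      intro a
      fin_cases a
      · exact sq_aux D.si hss hyp.ii hyp.zz
      · exact sq_aux D.sj hss hyp.jj hyp.zz
      · exact sq_aux hsij hss hijij hyp.zz
    refine three out h13 (by decide) hyp.xo hab ![s * i, s * j, s * (i * j)] hww hwx
      (pairs hyp.zz hyp.ii hyp.jj hyp.ij hss D.si D.sj) ?_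
    intro g hg _ a hga
    obtain ⟨c, -, k, hk⟩ := hconj g (out.exp g hg) _ (hww a) (hwx a) hga
    exact ⟨k, isConj_iff.2 ⟨c, hk.symm⟩⟩

end Cfsg.Agent.H770.MonThirFin
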