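import Cfsg.Agent.H770.MonThirMat
import Cfsg.Agent.H770.MonThirAbs
import Cfsg.Agent.H794.MonThirteen

/-!
# The elements `x, i, j, h, s` in the centralizer of a 2-central involution of the Monster (helper770, for S5207)
-/

set_option autoImplicit false
set_option maxRecDepth 100000

namespace Cfsg.Agent.H770.MonThirLoc

open Subgroup Cfsg Cfsg.Agent.H794.MonLift
open Cfsg.Agent.LThreeMB (fr KChart.Cent KChart.pi KChart.chart)
open Cfsg.Agent.MonsterU Cfsg.Agent.MonsterU.Ch
open Cfsg.Agent.MonsterU.Lam2 (L2)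
open Cfsg.Agent.MonsterX
open Cfsg.Agent.SporadicA.Co0Mono (signCo0)
open Cfsg.Agent.SporadicA.Co1Simple (allOne)
open Cfsg.Agent.CoOneType.ClosingFacts (mk mk_mul mk_eq_one neg_eq)
open Cfsg.Spor (Co1)
open Cfsg.Agent.H794 (MonData.e)

/-- the element of order 3 -/
noncomputable def h0 : Co1 := mk (MonThirMat.e 0)
/-- the inverting element -/
noncomputable def s0 : Co1 := mk (MonThirMat.e 1)

open Cfsg.Agent.H794.MonThirteen (b c s orderOf_s bs cs bb cc bcbc b_ne c_ne bc_ne mk_neg)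

theorem h0_pow : h0 * h0 * h0 = 1 := by
  have h := congrArg mk MonThirMat.h_pow
  rw [mk_mul, mk_mul] at h
  rw [h0, h]
  exact (mk_eq_one _).2 (Or.inl rfl)

theorem h0s : h0 * s = s * h0 := by
  have h := congrArg mk MonThirMat.hu
  rwa [mk_mul, mk_mul] at h

theorem h0b : h0 * b = c * h0 := by
  have h := congrArg mk MonThirMat.hb
  rwa [mk_mul, mk_mul] at h

theorem h0c : h0 * c = b * c * h0 := by
  have h := congrArg mk MonThirMat.hc
  rwa [mk_mul, mk_mul, mk_mul] at h

theorem s0b : s0 * b = b * s0 := by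
  have h := congrArg mk MonThirMat.sb
  rwa [mk_mul, mk_mul] at h

theorem s0c : s0 * c = c * s0 := by
  have h := congrArg mk MonThirMat.sc
  rwa [mk_mul, mk_mul] at h

theorem s0_sq : s0 * s0 = 1 := by
  have h := congrArg mk MonThirMat.s_sq
  rwa [mk_mul, mk_neg] at h

theorem s0s : s * (s0 * s) = s0 := by
  have h := congrArg mk MonThirMat.su
  rwa [mk_mul, mk_mul] at h

variable {G : Type*} [Group G] {Q : Subgroup G} {z : G} {eta : G → L2} {pi : centralizer ({z} : Set G) →* Co1}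

/-- lift of an element inverting `pi x` -/
theorem exists_inv (h : Chart Q z eta pi) {p : ℕ} (hp : p.Prime) (ho : Odd p)
    {x : centralizer ({z} : Set G)} (hx : x ^ p = 1) {t : Co1} (ht : t * pi x * t⁻¹ = (pi x)⁻¹) :
    ∃ c : centralizer ({z} : Set G), c * x * c⁻¹ = x⁻¹ ∧ pi c = t := by
  obtain ⟨c, hc⟩ := h.pi_surj t
  have h1 : pi (c * x * c⁻¹) = pi x⁻¹ := by
    rw [map_mul, map_mul, map_inv, hc, ht, map_inv]
  have h2 : (c * x * c⁻¹) ^ p = 1 := by rw [conj_pow, hx, mul_one, mul_inv_cancel]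
  obtain ⟨q, hq, hqx⟩ := MFive.exists_conj_of_pi_eq h hp ho h2 (by rw [inv_pow, hx, inv_one]) h1
  have hqz : q ∈ centralizer ({z} : Set G) := mem_centralizer_singleton_iff.2 (h.large.comm_z q hq)
  refine ⟨⟨q, hqz⟩ * c, ?_, ?_⟩
  · apply Subtype.ext
    rw [← hqx]
    simp only [Subgroup.coe_mul, InvMemClass.coe_inv, mul_inv_rev, mul_assoc]
  · rw [map_mul, (h.pi_eq_one ⟨q, hqz⟩).2 hq, one_mul, hc]

/-- **The elements `i, j, h, s`.** -/
theorem exists_dat (h : Chart Q z eta pi) {x : centralizer ({z} : Set G)} (hx : x ^ 13 = 1) (hxs : pi x = s)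
    (hfr : fr (pi x) = 1) (only : ∀ t : G, t * x = x * t → t * z = z * t → t * t = 1 → t = 1 ∨ t = z) :
    ∃ i j h s : G, MonThirAbs.Dat (x : G) z i j h s := by
  have h13 : Nat.Prime 13 := by norm_num
  have ho : Odd 13 := by decide
  have hzC : z ∈ centralizer ({z} : Set G) := mem_centralizer_singleton_iff.2 rfl
  obtain ⟨i, j, k, s, hd⟩ := MonThirAbs.exists_dat pi (x := x) (z := ⟨z, hzC⟩)
    (fun c => Subtype.ext (mem_centralizer_singleton_iff.1 c.2))
    (Subtype.ext h.large.z_sq) ((h.pi_eq_one _).2 h.large.z_mem)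
    (fun c hcx hc => by
      rcases eq_of_pi_one h ho hx hfr hc (congrArg Subtype.val hcx) with h1 | h1
      · exact Or.inl (Subtype.ext h1)
      · exact Or.inr (Subtype.ext h1))
    (fun c hcx hcc => by
      rcases only c (congrArg Subtype.val hcx) (mem_centralizer_singleton_iff.1 c.2) (congrArg Subtype.val hcc) with
        h1 | h1
      · exact Or.inl (Subtype.ext h1)
      · exact Or.inr (Subtype.ext h1))
    (b := b) (c := c) (h0 := h0) (s0 := s0) b_ne bc_ne bb cc bcbc h0_pow h0b h0c s0b s0c s0_sq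
    (by
      obtain ⟨c, h1, h2⟩ := MFive.exists_lift h h13 ho hx (s := b) (by rw [hxs]; exact bs)
      exact ⟨c, h1, h2⟩)
    (by
      obtain ⟨c, h1, h2⟩ := MFive.exists_lift h h13 ho hx (s := h0) (by rw [hxs]; exact h0s)
      exact ⟨c, h1, h2⟩)
    (exists_inv h h13 ho hx (by
      rw [hxs, mul_inv_eq_iff_eq_mul, eq_inv_mul_iff_mul_eq]
      exact s0s))
  have cv : ∀ {a b : centralizer ({z} : Set G)}, a = b → (a : G) = b := fun h => congrArg Subtype.val h
  exact ⟨i, j, k, s,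
    { ix := cv hd.ix, jx := cv hd.jx, hx := cv hd.hx, ii := cv hd.ii, jj := cv hd.jj, ij := cv hd.ij, h3 := cv hd.h3
      hi := cv hd.hi, hj := cv hd.hj, sx := cv hd.sx, sz := cv hd.sz, si := cv hd.si, sj := cv hd.sj
      ss := hd.ss.imp cv cv }⟩

/-- **The data in the model.** -/
theorem model : ∃ x i j h s : ↥InstData.M.G, orderOf x = 13 ∧ x * KDone.K.z = KDone.K.z * x ∧
    KDone.K.z * KDone.K.z = 1 ∧ KDone.K.z ≠ 1 ∧
    (∀ t : ↥InstData.M.G, t * x = x * t → t * KDone.K.z = KDone.K.z * t → t * t = 1 → t = 1 ∨ t = KDone.K.z) ∧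
    MonThirAbs.Dat x KDone.K.z i j h s := by
  have hfin := MFive.Row.finite_model
  have hc := MFive.Row.hc
  have h := KChart.chart KDone.lft hc
  have h13 : Nat.Prime 13 := by norm_num
  obtain ⟨x, hx, hxs⟩ := MFive.KPair.exists_order h h13 (by decide) orderOf_s
  have hx13 : x ^ 13 = 1 := by rw [← hx, pow_orderOf_eq_one]
  have hfr : fr (KChart.pi hc x) = 1 := BpMon.Thirteen.fr_pi KDone.lft hc hx
  have only : ∀ t : ↥InstData.M.G, t * x = x * t → t * KDone.K.z = KDone.K.z * t → t * t = 1 → t = 1 ∨ t = KDone.K.z := by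
    intro t htx htz htt
    by_cases ht : t = 1
    · exact Or.inl ht
    · right
      exact BpMon.Thirteen.only_inv KDone.lft hc (x := x) (t := ⟨t, mem_centralizer_singleton_iff.2 htz⟩) hx
        (Subtype.ext htt) (fun h1 => ht (congrArg Subtype.val h1)) (Subtype.ext htx.symm)
  obtain ⟨i, j, k, s, hd⟩ := exists_dat h hx13 hxs hfr only
  exact ⟨x, i, j, k, s, by rw [orderOf_coe, hx], mem_centralizer_singleton_iff.1 x.2, h.large.z_sq, h.large.z_ne,
    only, hd⟩

end Cfsg.Agent.H770.MonThirLoc
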