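import Cfsg.Agent.H794.MonData

/-!
# Explicit elements of `Co0` in the normalizer of an element of order 13 (helper770, for S5207)

With `u = e 3`, `b = e 4`, `c = e 5` of `H794.MonData`: `h` of order 3 commutes with `u`, `h b h⁻¹ = c`, `h c h⁻¹ = b c`;
`s` inverts `u`, commutes with `b`, `c`, and `s² = -1`.
-/

set_option autoImplicit false
set_option maxRecDepth 100000

namespace Cfsg.Agent.H770.MonThirMat

open Cfsg Cfsg.Agent.SporadicA Cfsg.Agent.SporadicStructure.Co0Matrix Cfsg.Agent.CoOneType.CoEval
open Cfsg.Agent.LThreeCo1.Ev
open Cfsg.Agent.H794

/-- code of a matrix -/
def nH : ℕ := 362115671992870724919412190748495450128802448266590097877652283733316942798344951135615722439151155718957893028228566387655966858307083014305603159616610996755120657202156850358093372082420215005179192330806338341956954503614050144362261206088385091279307648841058500267281989114991255148976652254315500086753599282588727944212057438276029389091171137266448563959003883430493391786088936959557992147201405419420788632415710213072220067214267881872693207742181070945166429932185507361583388755284036768823275728669706365060551493724343451474039681575834680797443461806074848446561094707741123587865504391870780462702261139678551986402185639418124543943087886724921175689245941512859696310336008307099947348369929623566327431894379872465248356640352665373974680608274903777510359871687416384922411746271152810266811406970144794075225382065917780896650666299279440101900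

/-- code of a matrix -/
def nS : ℕ := 477696677602508185818570592034634992092607400591122718499957135725051133611343412473209774127916886491417988152070788321963054300846863503634103327639095358112417541411496634696713966185210169113877894236637898405495477995941389266578286428660191578148496289039698999475818991969759233313598985865331343711244543689006140355763215811138424731789286481109864649060897667746918482041845652648849111694417567363946426026914263702179806260212251539991440654727169746198031447823095555665500556378942329608450948362325318864342475544012825372688786154180651128365907988088825049180495057254007020548196470440903332511927738559117398743263557017511810901979898515764092559254940557782002872920437910489205003924882229176759434598792830730382213306448513604763259951868685203625215542566553940048543524982390560108940058888441633036849319278190418940609939425721767124550160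

theorem okH : Ok (dec nH) (tr (dec nH)) := ok_of_okN (by decide +kernel)

theorem okS : Ok (dec nS) (tr (dec nS)) := ok_of_okN (by decide +kernel)

/-- the matrices -/
def M : ℕ → List (List ℤ)
  | 0 => dec nH
  | 1 => dec nS
  | i => MonData.M i

theorem okM (i : ℕ) : Ok (M i) (tr (M i)) := by
  unfold M
  split
  · exact okH
  · exact okS
  · exact MonData.okM _

/-- the elements -/
noncomputable def e (i : ℕ) : Co0 := Cfsg.Agent.SporadicStructure.Co0Matrix.mk (okM i)

theorem rep (i : ℕ) : Rep (e i) (M i) := rep_mk (okM i)

/-- A word equal to `-1`. -/
theorem word_neg {w : List ℕ} (h : eqL (foldZ M w betaL) negbetaL = true) :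
    (w.map e).prod = Co0Basic.negCo0 := by
  rw [foldZ_eq] at h
  exact eq_neg_of_negB rep h

theorem e_three : e 3 = MonData.e 3 := rfl
theorem e_four : e 4 = MonData.e 4 := rfl
theorem e_five : e 5 = MonData.e 5 := rfl

theorem h_pow : e 0 * e 0 * e 0 = 1 := by
  have h := eq_of_eqB (w := [0, 0, 0]) (w' := []) rep (by decide +kernel)
  simpa only [List.map_cons, List.map_nil, List.prod_cons, List.prod_nil, mul_one, mul_assoc, e_three, e_four, e_five] using h

theorem hu : e 0 * MonData.e 3 = MonData.e 3 * e 0 := by
  have h := eq_of_eqB (w := [0, 3]) (w' := [3, 0]) rep (by decide +kernel)
  simpa only [List.map_cons, List.map_nil, List.prod_cons, List.prod_nil, mul_one, e_three, e_four, e_five] using h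

theorem hb : e 0 * MonData.e 4 = MonData.e 5 * e 0 := by
  have h := eq_of_eqB (w := [0, 4]) (w' := [5, 0]) rep (by decide +kernel)
  simpa only [List.map_cons, List.map_nil, List.prod_cons, List.prod_nil, mul_one, e_three, e_four, e_five] using h

theorem hc : e 0 * MonData.e 5 = MonData.e 4 * MonData.e 5 * e 0 := by
  have h := eq_of_eqB (w := [0, 5]) (w' := [4, 5, 0]) rep (by decide +kernel)
  simpa only [List.map_cons, List.map_nil, List.prod_cons, List.prod_nil, mul_one, mul_assoc, e_three, e_four, e_five] using h

theorem sb : e 1 * MonData.e 4 = MonData.e 4 * e 1 := by
  have h := eq_of_eqB (w := [1, 4]) (w' := [4, 1]) rep (by decide +kernel)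
  simpa only [List.map_cons, List.map_nil, List.prod_cons, List.prod_nil, mul_one, e_three, e_four, e_five] using h

theorem sc : e 1 * MonData.e 5 = MonData.e 5 * e 1 := by
  have h := eq_of_eqB (w := [1, 5]) (w' := [5, 1]) rep (by decide +kernel)
  simpa only [List.map_cons, List.map_nil, List.prod_cons, List.prod_nil, mul_one, e_three, e_four, e_five] using h

theorem s_sq : e 1 * e 1 = Co0Basic.negCo0 := by
  have h := word_neg (w := [1, 1]) (by decide +kernel)
  simpa only [List.map_cons, List.map_nil, List.prod_cons, List.prod_nil, mul_one, e_three, e_four, e_five] using h

theorem su : MonData.e 3 * (e 1 * MonData.e 3) = e 1 := by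
  have h := eq_of_eqB (w := [3, 1, 3]) (w' := [1]) rep (by decide +kernel)
  simpa only [List.map_cons, List.map_nil, List.prod_cons, List.prod_nil, mul_one, e_three, e_four, e_five] using h

end Cfsg.Agent.H770.MonThirMat
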