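import Mathlib

/-!
# Lifting subgroups of odd order over a 2-group (helper770)
-/

set_option autoImplicit false

namespace Cfsg.Agent.H770.OddLift

open Subgroup
open scoped Pointwise

/-- **Lifting over a kernel of coprime order** (Schur-Zassenhaus). -/
theorem exists_lift {C X : Type*} [Group C] [Finite C] [Group X] (φ : C →* X) (hφ : Function.Surjective φ)
    (H : Subgroup X) (hco : (Nat.card φ.ker).Coprime (Nat.card H)) :
    ∃ ψ : H →* C, ∀ h : H, φ (ψ h) = h := by
  classical
  let K : Subgroup C := H.comap φ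
  let φK : K →* H := (φ.comp K.subtype).codRestrict H (fun k => k.2)
  have hφK : ∀ k : K, (φK k : X) = φ k := fun _ => rfl
  have hsurj : Function.Surjective φK := by
    intro h
    obtain ⟨c, hc⟩ := hφ h
    have hcK : c ∈ K := by
      change φ c ∈ H
      rw [hc]; exact h.2
    exact ⟨⟨c, hcK⟩, Subtype.ext hc⟩
  have hker : Nat.card φK.ker = Nat.card φ.ker := by
    refine Nat.card_congr (Equiv.ofBijective
      (fun k : φK.ker => (⟨((k : K) : C), ?_⟩ : φ.ker)) ⟨?_, ?_⟩)
    · have := congrArg (fun y : H => (y : X)) (MonoidHom.mem_ker.1 k.2)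
      exact MonoidHom.mem_ker.2 this
    · intro a b hab
      have h1 : ((a : K) : C) = ((b : K) : C) := congrArg (fun y : φ.ker => (y : C)) hab
      exact Subtype.ext (Subtype.ext h1)
    · intro y
      have hy : φ (y : C) = 1 := MonoidHom.mem_ker.1 y.2
      have hyK : (y : C) ∈ K := by
        change φ (y : C) ∈ H
        rw [hy]; exact H.one_mem
      exact ⟨⟨⟨y, hyK⟩, MonoidHom.mem_ker.2 (Subtype.ext hy)⟩, rfl⟩
  have hidx : φK.ker.index = Nat.card H := by
    rw [Subgroup.index_ker]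
    have : φK.range = ⊤ := MonoidHom.range_eq_top.2 hsurj
    rw [this]
    exact Nat.card_congr (Subgroup.topEquiv (G := H)).toEquiv
  obtain ⟨T, hT⟩ := Subgroup.exists_right_complement'_of_coprime (N := φK.ker) (by rw [hker, hidx]; exact hco)
  have hbij : Function.Bijective (φK.comp T.subtype) := by
    constructor
    · rw [injective_iff_map_eq_one]
      intro t ht
      have h1 : (t : K) ∈ φK.ker := ht
      have h2 := hT.disjoint
      rw [Subgroup.disjoint_def] at h2
      exact Subtype.ext (h2 h1 t.2)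
    · intro h
      obtain ⟨k, hk⟩ := hsurj h
      obtain ⟨⟨n, t⟩, hnt⟩ := hT.2 k
      refine ⟨t, ?_⟩
      change φK (t : K) = h
      have h3 : φK ((n : K) * (t : K)) = φK (t : K) := by
        rw [map_mul, show φK (n : K) = 1 from n.2, one_mul]
      rw [← h3]
      change φK ((n : K) * (t : K)) = h
      have h4 : (n : K) * (t : K) = k := hnt
      rw [h4, hk]
  let e := MulEquiv.ofBijective (φK.comp T.subtype) hbij
  refine ⟨(K.subtype.comp T.subtype).comp e.symm.toMonoidHom, fun h => ?_⟩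
  have h5 : e (e.symm h) = h := e.apply_symm_apply h
  have h6 := congrArg (fun y : H => (y : X)) h5
  exact h6

/-- commuting elements: the closure is commutative -/
theorem comm_closure {X : Type*} [Group X] {a b : X} (hab : a * b = b * a) {x y : X}
    (hx : x ∈ closure ({a, b} : Set X)) (hy : y ∈ closure ({a, b} : Set X)) : x * y = y * x := by
  have h1 : closure ({a, b} : Set X) ≤ centralizer ({a, b} : Set X) := by
    rw [closure_le]
    intro u hu
    refine mem_centralizer_iff.2 fun v hv => ?_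
    rcases hu with rfl | hu <;> rcases hv with rfl | hv
    · rfl
    · rw [Set.mem_singleton_iff] at hv; subst hv; exact hab.symm
    · rw [Set.mem_singleton_iff] at hu; subst hu; exact hab
    · rw [Set.mem_singleton_iff] at hu hv; subst hu; subst hv; rfl
  have h2 : closure ({a, b} : Set X) ≤ centralizer (closure ({a, b} : Set X) : Set X) := by
    rw [closure_le]
    intro u hu
    refine mem_centralizer_iff.2 fun v hv => ?_
    exact (mem_centralizer_iff.1 (h1 hv) u hu).symm
  exact (mem_centralizer_iff.1 (h2 hy) x hx)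

theorem pow_closure {X : Type*} [Group X] {a b : X} {n : ℕ} (hab : a * b = b * a) (ha : a ^ n = 1) (hb : b ^ n = 1)
    {x : X} (hx : x ∈ closure ({a, b} : Set X)) : x ^ n = 1 := by
  induction hx using closure_induction with
  | mem x hx =>
    rcases hx with rfl | hx
    · exact ha
    · rw [Set.mem_singleton_iff] at hx; subst hx; exact hb
  | one => exact one_pow n
  | mul x y hx hy h1 h2 =>
    have hc : Commute x y := comm_closure hab hx hy
    rw [hc.mul_pow, h1, h2, one_mul]
  | inv x _ h => rw [inv_pow, h, inv_one]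

/-- **The exponent of `⟨a, b⟩⟨s, t⟩`**: `A = ⟨a, b⟩` abelian of exponent `n`, `T = ⟨s, t⟩` abelian of exponent `m`
normalizing `A`. -/
theorem pow_sup {X : Type*} [Group X] {a b s t : X} (hab : a * b = b * a) (hst : s * t = t * s)
    {n m : ℕ} (ha : a ^ n = 1) (hb : b ^ n = 1) (hs : s ^ m = 1) (ht : t ^ m = 1)
    (hsn : closure ({s, t} : Set X) ≤ normalizer (closure ({a, b} : Set X) : Set X)) :
    ∀ x ∈ closure ({s, t} : Set X) ⊔ closure ({a, b} : Set X), x ^ (m * n) = 1 := by
  intro x hx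
  have h1 := coe_mul_of_left_le_normalizer_right (closure ({s, t} : Set X)) (closure ({a, b} : Set X)) hsn
  have hx' : x ∈ ((closure ({s, t} : Set X) : Set X) * (closure ({a, b} : Set X) : Set X)) := by
    rw [← h1]; exact hx
  obtain ⟨τ, hτ, α, hα, rfl⟩ := Set.mem_mul.1 hx'
  have key : ∀ k : ℕ, (τ ^ k)⁻¹ * (τ * α) ^ k ∈ closure ({a, b} : Set X) := by
    intro k
    induction k with
    | zero => simp
    | succ k ih =>
      have e : (τ ^ (k + 1))⁻¹ * (τ * α) ^ (k + 1) = (τ⁻¹ * ((τ ^ k)⁻¹ * (τ * α) ^ k) * τ⁻¹⁻¹) * α := by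
        rw [pow_succ τ k, pow_succ (τ * α) k]
        group
      rw [e]
      exact mul_mem ((mem_normalizer_iff.1 (hsn (inv_mem hτ)) _).1 ih) hα
  have h2 := key m
  rw [pow_closure hst hs ht hτ, inv_one, one_mul] at h2
  rw [pow_mul]
  exact pow_closure hab ha hb h2

/-- the closure of two sets -/
theorem normalizer_of_gens {X : Type*} [Group X] [Finite X] {a b s t : X}
    (h1 : s * a * s⁻¹ ∈ closure ({a, b} : Set X)) (h2 : s * b * s⁻¹ ∈ closure ({a, b} : Set X))
    (h3 : t * a * t⁻¹ ∈ closure ({a, b} : Set X)) (h4 : t * b * t⁻¹ ∈ closure ({a, b} : Set X)) :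
    closure ({s, t} : Set X) ≤ normalizer (closure ({a, b} : Set X) : Set X) := by
  have key : ∀ u : X, u * a * u⁻¹ ∈ closure ({a, b} : Set X) → u * b * u⁻¹ ∈ closure ({a, b} : Set X) →
      u ∈ normalizer (closure ({a, b} : Set X) : Set X) := by
    intro u hua hub
    have hle : (closure ({a, b} : Set X)).map (MulAut.conj u).toMonoidHom ≤ closure ({a, b} : Set X) := by
      rw [MonoidHom.map_closure, closure_le]
      rintro _ ⟨y, hy, rfl⟩
      rcases hy with rfl | hy
      · exact hua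
      · rw [Set.mem_singleton_iff] at hy; subst hy; exact hub
    have hcard : Nat.card ((closure ({a, b} : Set X)).map (MulAut.conj u).toMonoidHom) =
        Nat.card (closure ({a, b} : Set X)) :=
      Nat.card_congr ((closure ({a, b} : Set X)).equivMapOfInjective _ (MulAut.conj u).injective).symm.toEquiv
    have heq := Subgroup.eq_of_le_of_card_ge hle hcard.symm.le
    rw [mem_normalizer_iff]
    intro y
    constructor
    · intro hy
      rw [← heq]
      exact ⟨y, hy, rfl⟩
    · intro hy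
      rw [← heq] at hy
      obtain ⟨y', hy', he⟩ := hy
      have : y' = y := by
        have h5 : u * y' * u⁻¹ = u * y * u⁻¹ := he
        simpa using h5
      rw [← this]; exact hy'
  rw [closure_le]
  intro u hu
  rcases hu with rfl | hu
  · exact key _ h1 h2
  · rw [Set.mem_singleton_iff] at hu; subst hu; exact key _ h3 h4

/-- **The torus `(7:3) x (7:3)` lifts** through a surjection with kernel a 2-group. -/
theorem lift_torus {C X : Type*} [Group C] [Finite C] [Group X] (φ : C →* X) (hφ : Function.Surjective φ)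
    {k : ℕ} (hk : Nat.card φ.ker = 2 ^ k) {a b s t : X} (hab : a * b = b * a) (hst : s * t = t * s)
    (ha : a ^ 7 = 1) (hb : b ^ 7 = 1) (hs : s ^ 3 = 1) (ht : t ^ 3 = 1) (hsa : s * a * s⁻¹ = a ^ 2)
    (hsb : s * b * s⁻¹ = b) (htb : t * b * t⁻¹ = b ^ 2) (hta : t * a * t⁻¹ = a) (ha1 : a ≠ 1) (hb1 : b ≠ 1)
    (hn : a ∉ zpowers b) :
    ∃ a' b' s' t' : C, a' ^ 7 = 1 ∧ b' ^ 7 = 1 ∧ a' ≠ 1 ∧ b' ≠ 1 ∧ a' * b' = b' * a' ∧ a' ∉ zpowers b' ∧
      s' * a' * s'⁻¹ = a' ^ 2 ∧ s' * b' * s'⁻¹ = b' ∧ t' * b' * t'⁻¹ = b' ^ 2 ∧ t' * a' * t'⁻¹ = a' := by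
  have hX : Finite X := Finite.of_surjective φ hφ
  have hac : a ∈ closure ({a, b} : Set X) := subset_closure (by simp)
  have hbc : b ∈ closure ({a, b} : Set X) := subset_closure (by simp)
  have hN := normalizer_of_gens (a := a) (b := b) (s := s) (t := t) (by rw [hsa]; exact pow_mem hac 2)
    (by rw [hsb]; exact hbc) (by rw [hta]; exact hac) (by rw [htb]; exact pow_mem hbc 2)
  have hexp := pow_sup hab hst ha hb hs ht hN
  set H := closure ({s, t} : Set X) ⊔ closure ({a, b} : Set X) with hH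
  have hodd : (Nat.card φ.ker).Coprime (Nat.card H) := by
    rw [hk]
    refine Nat.Coprime.pow_left k ?_
    rw [Nat.coprime_two_left, ← Nat.not_even_iff_odd, even_iff_two_dvd]
    intro h2
    have := Fact.mk Nat.prime_two
    obtain ⟨x, hx⟩ := exists_prime_orderOf_dvd_card' 2 h2
    have h3 : orderOf x ∣ 3 * 7 := by
      apply orderOf_dvd_of_pow_eq_one
      exact Subtype.ext (hexp x x.2)
    rw [hx] at h3
    norm_num at h3
  obtain ⟨ψ, hψ⟩ := exists_lift φ hφ H hodd
  have mA : ∀ x ∈ closure ({a, b} : Set X), x ∈ H := fun x hx => (le_sup_right : _ ≤ H) hx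
  have mT : ∀ x ∈ closure ({s, t} : Set X), x ∈ H := fun x hx => (le_sup_left : _ ≤ H) hx
  let a₀ : H := ⟨a, mA a hac⟩
  let b₀ : H := ⟨b, mA b hbc⟩
  let s₀ : H := ⟨s, mT s (subset_closure (by simp))⟩
  let t₀ : H := ⟨t, mT t (subset_closure (by simp))⟩
  have hinj : ∀ x y : H, ψ x = ψ y → (x : X) = y := by
    intro x y h
    rw [← hψ x, ← hψ y, h]
  refine ⟨ψ a₀, ψ b₀, ψ s₀, ψ t₀, ?_, ?_, ?_, ?_, ?_, ?_, ?_, ?_, ?_, ?_⟩
  · rw [← map_pow, show a₀ ^ 7 = 1 from Subtype.ext ha, map_one]
  · rw [← map_pow, show b₀ ^ 7 = 1 from Subtype.ext hb, map_one]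
  · intro h
    exact ha1 (hinj a₀ 1 (by rw [h, map_one]))
  · intro h
    exact hb1 (hinj b₀ 1 (by rw [h, map_one]))
  · rw [← map_mul, ← map_mul, show a₀ * b₀ = b₀ * a₀ from Subtype.ext hab]
  · rintro ⟨n, hn'⟩
    refine hn ⟨n, ?_⟩
    have h : ψ (b₀ ^ n) = ψ a₀ := by rw [map_zpow]; exact hn'
    have h1 := hinj _ _ h
    simpa using h1
  · rw [← map_mul, ← map_inv, ← map_mul, ← map_pow, show s₀ * a₀ * s₀⁻¹ = a₀ ^ 2 from Subtype.ext hsa]
  · rw [← map_mul, ← map_inv, ← map_mul, show s₀ * b₀ * s₀⁻¹ = b₀ from Subtype.ext hsb]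
  · rw [← map_mul, ← map_inv, ← map_mul, ← map_pow, show t₀ * b₀ * t₀⁻¹ = b₀ ^ 2 from Subtype.ext htb]
  · rw [← map_mul, ← map_inv, ← map_mul, show t₀ * a₀ * t₀⁻¹ = a₀ from Subtype.ext hta]

end Cfsg.Agent.H770.OddLift
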