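import Cfsg.Agent.H770.MonSevMat
import Cfsg.Agent.H770.OddLift
import Cfsg.Agent.S5542

/-!
# `(7:3) x (7:3)` in the Monster (helper770, for S5209)
-/

set_option autoImplicit false
set_option maxRecDepth 100000

namespace Cfsg.Agent.H770.MonsterSeven

open Cfsg Cfsg.Agent.SporadicStructure.Co0Matrix Cfsg.Agent.CoOneType.CoEval
open Cfsg.Agent.H770

theorem r_ne : pr MonSevMat.r ≠ 1 := by
  have h := ne_one_of_neB MonSevMat.rep (w := [0]) (by decide +kernel)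
  simp only [List.map_cons, List.map_nil, List.prod_cons, List.prod_nil, mul_one] at h
  exact h

theorem w_ne : pr MonSevMat.w ≠ 1 := by
  have h := ne_one_of_neB MonSevMat.rep (w := [1]) (by decide +kernel)
  simp only [List.map_cons, List.map_nil, List.prod_cons, List.prod_nil, mul_one] at h
  exact h

/-- The torus in `Co1`. -/
theorem co1 : ∃ a b s t : Spor.Co1, a * b = b * a ∧ s * t = t * s ∧ a ^ 7 = 1 ∧ b ^ 7 = 1 ∧ s ^ 3 = 1 ∧ t ^ 3 = 1 ∧
    s * a * s⁻¹ = a ^ 2 ∧ s * b * s⁻¹ = b ∧ t * b * t⁻¹ = b ^ 2 ∧ t * a * t⁻¹ = a ∧ a ≠ 1 ∧ b ≠ 1 ∧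
    a ∉ Subgroup.zpowers b := by
  have hsa : pr MonSevMat.s * pr MonSevMat.r * (pr MonSevMat.s)⁻¹ = (pr MonSevMat.r) ^ 2 := by
    rw [← map_mul, MonSevMat.sr, map_mul, map_mul, pow_two]
    group
  have hsb : pr MonSevMat.s * pr MonSevMat.w * (pr MonSevMat.s)⁻¹ = pr MonSevMat.w := by
    rw [← map_mul, MonSevMat.sw, map_mul]
    group
  have htb : pr MonSevMat.t * pr MonSevMat.w * (pr MonSevMat.t)⁻¹ = (pr MonSevMat.w) ^ 2 := by
    rw [← map_mul, MonSevMat.tw, map_mul, map_mul, pow_two]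
    group
  have hta : pr MonSevMat.t * pr MonSevMat.r * (pr MonSevMat.t)⁻¹ = pr MonSevMat.r := by
    rw [← map_mul, MonSevMat.tr_comm, map_mul]
    group
  refine ⟨pr MonSevMat.r, pr MonSevMat.w, pr MonSevMat.s, pr MonSevMat.t, ?_, ?_, ?_, ?_, ?_, ?_, hsa, hsb, htb, hta,
    r_ne, w_ne, ?_⟩
  · rw [← map_mul, ← map_mul, MonSevMat.rw_comm]
  · rw [← map_mul, ← map_mul, MonSevMat.st_comm]
  · rw [← map_pow, MonSevMat.r_pow, map_one]
  · rw [← map_pow, MonSevMat.w_pow, map_one]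
  · rw [← map_pow, MonSevMat.s_pow, map_one]
  · rw [← map_pow, MonSevMat.t_pow, map_one]
  · rintro ⟨n, hn⟩
    apply r_ne
    have hn' : (pr MonSevMat.w) ^ n = pr MonSevMat.r := hn
    have h1 : pr MonSevMat.t * (pr MonSevMat.w) ^ n * (pr MonSevMat.t)⁻¹ = ((pr MonSevMat.w) ^ n) ^ 2 := by
      have h2 : pr MonSevMat.t * (pr MonSevMat.w) ^ n * (pr MonSevMat.t)⁻¹ =
          (pr MonSevMat.t * pr MonSevMat.w * (pr MonSevMat.t)⁻¹) ^ n := (conj_zpow).symm
      rw [h2, htb, ← zpow_natCast, ← zpow_natCast, ← zpow_mul, ← zpow_mul, mul_comm]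
    rw [hn', hta, pow_two] at h1
    exact (mul_eq_left.1 h1.symm)

/-- **`(7:3) x (7:3)` in the Monster.** -/
theorem monster_seven {L : Type*} [Group L] [Finite L] (h : Cfsg.Spor.IsoM L) :
    ∃ a b s t : L, a ^ 7 = 1 ∧ b ^ 7 = 1 ∧ a ≠ 1 ∧ b ≠ 1 ∧ a * b = b * a ∧ a ∉ Subgroup.zpowers b ∧
      s * a * s⁻¹ = a ^ 2 ∧ s * b * s⁻¹ = b ∧ t * b * t⁻¹ = b ^ 2 ∧ t * a * t⁻¹ = a := by
  obtain ⟨e⟩ := h
  have hfin : Finite Spor.Monster := Finite.of_equiv L e.toEquiv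
  obtain ⟨z, Q, hQ, hset, f, -, -⟩ := Cfsg.Agent.S5542.result
  let φ : Subgroup.centralizer ({z} : Set Spor.Monster) →* Spor.Co1 := f.toMonoidHom.comp (QuotientGroup.mk' Q)
  have hφ : Function.Surjective φ := f.surjective.comp (QuotientGroup.mk'_surjective Q)
  have hker : φ.ker = Q := by
    ext x
    rw [MonoidHom.mem_ker]
    change f (QuotientGroup.mk' Q x) = 1 ↔ x ∈ Q
    rw [map_eq_one_iff f f.injective]
    exact QuotientGroup.eq_one_iff x
  have hk : Nat.card φ.ker = 2 ^ (2 * 12 + 1) := by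
    rw [hker]; exact hset.2.2.2.1
  obtain ⟨a, b, s, t, hab, hst, ha, hb, hs, ht, hsa, hsb, htb, hta, ha1, hb1, hn⟩ := co1
  obtain ⟨a', b', s', t', h1, h2, h3, h4, h5, h6, h7, h8, h9, h10⟩ :=
    OddLift.lift_torus φ hφ hk hab hst ha hb hs ht hsa hsb htb hta ha1 hb1 hn
  have hinj : Function.Injective (fun x : Subgroup.centralizer ({z} : Set Spor.Monster) => e.symm (x : Spor.Monster)) :=
    e.symm.injective.comp Subtype.val_injective
  let j : Subgroup.centralizer ({z} : Set Spor.Monster) →* L :=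
    e.symm.toMonoidHom.comp (Subgroup.centralizer ({z} : Set Spor.Monster)).subtype
  have hj : Function.Injective j := hinj
  refine ⟨j a', j b', j s', j t', ?_, ?_, ?_, ?_, ?_, ?_, ?_, ?_, ?_, ?_⟩
  · rw [← map_pow, h1, map_one]
  · rw [← map_pow, h2, map_one]
  · exact fun h => h3 (hj (by rw [h, map_one]))
  · exact fun h => h4 (hj (by rw [h, map_one]))
  · rw [← map_mul, ← map_mul, h5]
  · rintro ⟨n, hn'⟩
    refine h6 ⟨n, hj ?_⟩
    have h11 : (j b') ^ n = j a' := hn'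
    change j (b' ^ n) = j a'
    rw [map_zpow]; exact h11
  · rw [← map_mul, ← map_inv, ← map_mul, h7, map_pow]
  · rw [← map_mul, ← map_inv, ← map_mul, h8]
  · rw [← map_mul, ← map_inv, ← map_mul, h9, map_pow]
  · rw [← map_mul, ← map_inv, ← map_mul, h10]

end Cfsg.Agent.H770.MonsterSeven
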