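import Cfsg.Agent.H802.FusSub
import Cfsg.Agent.Transfer.Residual
import Cfsg.Prelude.Def_FusionReduction

/-!
# Subsystems of p-power index: hyperfocal subgroups, uniqueness (helper770)
-/

set_option autoImplicit false

namespace Cfsg.Agent.H770

open Cfsg Cfsg.FusionSystem Cfsg.Agent.H802

/-! ### Coprime action -/

/-- `x⁻¹ α(x)`, to the order of `α`, lies in any subgroup `N` containing `d⁻¹ α(d)` for all `d` in an
`α`-stable subgroup `D` containing `x⁻¹ α(x)`. -/
theorem pow_mem_of_chain {P : Type*} [Group P] (α : MulAut P) {m : ℕ} (hα : α ^ m = 1)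
    (D N : Subgroup P) (hD : ∀ d ∈ D, α d ∈ D) (hN : ∀ d ∈ D, d⁻¹ * α d ∈ N) (x : P)
    (hx : x⁻¹ * α x ∈ D) : (x⁻¹ * α x) ^ m ∈ N := by
  have key : ∀ k : ℕ, ∃ n ∈ N, x⁻¹ * (α ^ k) x = (x⁻¹ * α x) ^ k * n ∧ x⁻¹ * (α ^ k) x ∈ D := by
    intro k
    induction k with
    | zero => exact ⟨1, N.one_mem, by simp, by simp⟩
    | succ k ih =>
      obtain ⟨n, hn, h1, h2⟩ := ih
      have h3 := hN _ h2
      have h4 : x⁻¹ * (α ^ (k + 1)) x = (x⁻¹ * α x) * α (x⁻¹ * (α ^ k) x) := by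
        rw [pow_succ', MulAut.mul_apply, map_mul, map_inv]
        group
      refine ⟨n * ((x⁻¹ * (α ^ k) x)⁻¹ * α (x⁻¹ * (α ^ k) x)), N.mul_mem hn h3, ?_, ?_⟩
      · rw [h4, pow_succ']
        have h5 : α (x⁻¹ * (α ^ k) x) =
            ((x⁻¹ * α x) ^ k * n) * ((x⁻¹ * (α ^ k) x)⁻¹ * α (x⁻¹ * (α ^ k) x)) := by
          rw [← h1]
          group
        generalize α (x⁻¹ * (α ^ k) x) = c at h5 ⊢
        generalize (x⁻¹ * (α ^ k) x)⁻¹ * c = d at h5 ⊢
        rw [h5]
        simp only [mul_assoc]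
      · rw [h4]
        exact D.mul_mem hx (hD _ h2)
  obtain ⟨n, hn, h1, -⟩ := key m
  rw [hα, MulAut.one_apply, inv_mul_cancel] at h1
  have h2 : (x⁻¹ * α x) ^ m = n⁻¹ := eq_inv_of_mul_eq_one_left h1.symm
  rw [h2]
  exact N.inv_mem hn

/-- An element with two coprime powers in a subgroup lies in it. -/
theorem mem_of_pow_mem_of_coprime {G : Type*} [Group G] {N : Subgroup G} {g : G} {m n : ℕ}
    (hm : g ^ m ∈ N) (hn : g ^ n ∈ N) (h : m.Coprime n) : g ∈ N := by
  have h1 : g = (g ^ m) ^ (Nat.gcdA m n) * (g ^ n) ^ (Nat.gcdB m n) := by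
    rw [← zpow_natCast g m, ← zpow_natCast g n, ← zpow_mul, ← zpow_mul, ← zpow_add,
      ← Nat.gcd_eq_gcd_ab, h]
    simp
  rw [h1]
  exact N.mul_mem (N.zpow_mem hm _) (N.zpow_mem hn _)

/-- Coprime action, the elementary form of `[P, A] = [P, A, A]`. -/
theorem mem_of_chain_of_coprime {P : Type*} [Group P] {p : ℕ} (hP : IsPGroup p P) (α : MulAut P)
    (hα : (orderOf α).Coprime p)
    (D N : Subgroup P) (hD : ∀ d ∈ D, α d ∈ D) (hN : ∀ d ∈ D, d⁻¹ * α d ∈ N) (x : P)
    (hx : x⁻¹ * α x ∈ D) : x⁻¹ * α x ∈ N := by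
  have h1 := pow_mem_of_chain α (pow_orderOf_eq_one α) D N hD hN x hx
  obtain ⟨k, hk⟩ := hP (x⁻¹ * α x)
  refine mem_of_pow_mem_of_coprime h1 (n := p ^ k) ?_ (hα.pow_right k)
  rw [hk]
  exact N.one_mem

/-! ### Comparison of systems -/

variable {Ω : Type*} [Group Ω] {S T : Subgroup Ω}

/-- Fusion systems over the same `S` with the same maps are equal. -/
theorem fus_ext {F F' : FusionSystem S} (h : ∀ P, F.Hom P = F'.Hom P) : F = F' := by
  cases F
  cases F'
  have : ∀ P, _ = _ := h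
  congr
  funext P
  exact h P

theorem fus_ext_le {F F' : FusionSystem S} (h : ∀ P, F.Hom P ⊆ F'.Hom P)
    (h' : ∀ P, F'.Hom P ⊆ F.Hom P) : F = F' :=
  fus_ext fun P => Set.Subset.antisymm (h P) (h' P)

theorem le_of_sub {E : FusionSystem T} {F : FusionSystem S} (h : E.IsSubsystemOf F) : T ≤ S :=
  hom_le (h T (subtype_mem E le_rfl))

/-- Systems with the same maps are over the same group. -/
theorem eq_of_hom_eq {E : FusionSystem T} {F : FusionSystem S} (h : ∀ P, E.Hom P = F.Hom P) :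
    T = S :=
  le_antisymm (le_of_sub fun P => (h P).subset) (le_of_sub fun P => (h P).symm.subset)

theorem autGroup_mono' {E : FusionSystem T} {F : FusionSystem S} (h : E.IsSubsystemOf F)
    (P : Subgroup Ω) : E.autGroup P ≤ F.autGroup P :=
  Subgroup.closure_mono fun _ hα => h P hα

theorem hyp_mono {E : FusionSystem T} {F : FusionSystem S} (h : E.IsSubsystemOf F) (p : ℕ) :
    E.hyperfocalSubgroup p ≤ F.hyperfocalSubgroup p := by
  refine Subgroup.closure_mono ?_
  rintro y ⟨P, ⟨α, hα⟩, x, hPT, hα', rfl⟩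
  refine ⟨P, ⟨α, autGroup_mono' h P hα⟩, x, hPT.trans (le_of_sub h), ?_, rfl⟩
  have h1 := Cfsg.Agent.Transfer.Residual.map_pResidual_le p
    (Subgroup.inclusion (autGroup_mono' h P))
  exact h1 ⟨_, hα', rfl⟩

/-- The hyperfocal subgroup is contained in `T` as soon as `T` contains `x⁻¹ α(x)` for all automorphisms `α`
of order prime to `p`. -/
theorem hyp_le_iff {F : FusionSystem S} {p : ℕ} {H : Subgroup Ω} :
    F.hyperfocalSubgroup p ≤ H ↔ ∀ P ≤ S, ∀ α ∈ F.autGroup P, (orderOf α).Coprime p →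
      ∀ x : P, (x : Ω)⁻¹ * (α x : P) ∈ H := by
  constructor
  · intro h P hP α hα ho x
    refine h (Subgroup.subset_closure ⟨P, ⟨α, hα⟩, x, hP, ?_, rfl⟩)
    refine Cfsg.Agent.Transfer.Residual.mem_pResidual_of_coprime ?_
    rwa [← Subgroup.orderOf_coe]
  · intro h
    refine (Subgroup.closure_le _).2 ?_
    rintro y ⟨P, α, x, hPS, hα, rfl⟩
    -- the automorphisms moving every element within its coset modulo `H`
    have key : ∀ α ∈ pResidual p (F.autGroup P), ∀ x : P,
        (x : Ω)⁻¹ * ((α : MulAut P) x : P) ∈ H := by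
      intro α hα
      refine Subgroup.closure_induction (p := fun (α : F.autGroup P) _ => ∀ x : P,
        (x : Ω)⁻¹ * ((α : MulAut P) x : P) ∈ H) ?_ ?_ ?_ ?_ hα
      · intro β hβ x
        refine h P hPS β β.2 ?_ x
        rwa [Subgroup.orderOf_coe]
      · intro x
        simp
      · intro a b _ _ ha hb x
        have h1 := ha ((b : MulAut P) x)
        have h2 := hb x
        have h3 : (x : Ω)⁻¹ * (((a * b : F.autGroup P) : MulAut P) x : P) =
            ((x : Ω)⁻¹ * ((b : MulAut P) x : P)) *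
            ((((b : MulAut P) x : P) : Ω)⁻¹ * ((a : MulAut P) ((b : MulAut P) x) : P)) := by
          rw [Subgroup.coe_mul, MulAut.mul_apply]
          group
        rw [h3]
        exact H.mul_mem h2 h1
      · intro a _ ha x
        have h1 := ha (((a⁻¹ : F.autGroup P) : MulAut P) x)
        have h2 : (a : MulAut P) (((a⁻¹ : F.autGroup P) : MulAut P) x) = x := by
          rw [Subgroup.coe_inv]
          exact (a : MulAut P).apply_symm_apply x
        rw [h2] at h1
        have h3 := H.inv_mem h1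
        simpa using h3
    exact key α hα x

/-- `Aut_E(P)` contains every element of `Aut_F(P)` of order prime to `p`. -/
theorem mem_autGroup_of_coprime {E : FusionSystem T} {F : FusionSystem S} {p : ℕ}
    (hidx : E.HasPPowerIndexIn F p) {P : Subgroup Ω} (hP : P ≤ T) {α : MulAut P}
    (hα : α ∈ F.autGroup P) (ho : (orderOf α).Coprime p) : α ∈ E.autGroup P := by
  refine hidx.2.2 P hP ⟨⟨α, hα⟩, ?_, rfl⟩
  refine Cfsg.Agent.Transfer.Residual.mem_pResidual_of_coprime ?_
  rwa [← Subgroup.orderOf_coe]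

/-- Restriction of an automorphism in the system to an invariant subgroup. -/
theorem exists_restrict_aut [Finite S] {F : FusionSystem S} {P R : Subgroup Ω} (hP : P ≤ S)
    {α : MulAut P} (hα : α ∈ F.autGroup P) (hR : R ≤ P)
    (h : ∀ (x : Ω) (hx : x ∈ R), ((α ⟨x, hR hx⟩ : P) : Ω) ∈ R) :
    ∃ β ∈ F.autGroup R, (∀ x : R, ((β x : R) : Ω) = (α ⟨x, hR x.2⟩ : P)) ∧
      orderOf β ∣ orderOf α := by
  have hfR : Finite R := finite_of_le (hR.trans hP)
  have h1 := restrict_mem ((mem_autGroup_iff F hP α).1 hα) hR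
  have h2 := range_eq_of_mapsTo h1 (fun x => h x x.2)
  obtain ⟨β, hβ, hβe⟩ := exists_aut h1 h2
  refine ⟨β, hβ, fun x => hβe x, ?_⟩
  rw [orderOf_dvd_iff_pow_eq_one]
  have hpow : ∀ (n : ℕ) (x : R), (((β ^ n) x : R) : Ω) = ((α ^ n) ⟨x, hR x.2⟩ : P) := by
    intro n
    induction n with
    | zero => intro x; rfl
    | succ n ih =>
      intro x
      rw [pow_succ', pow_succ', MulAut.mul_apply, MulAut.mul_apply]
      have e1 := hβe ((β ^ n) x)
      rw [e1]
      show ((α ⟨((β ^ n) x : R), hR ((β ^ n) x).2⟩ : P) : Ω) = _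
      congr 2
      exact Subtype.ext (ih x)
  apply MulEquiv.ext
  intro x
  apply Subtype.ext
  rw [hpow, pow_orderOf_eq_one]
  rfl

/-- A subsystem of `p`-power index has the same hyperfocal subgroup. -/
theorem hyp_eq [Finite S] {p : ℕ} (hS : IsPGroup p S) {E : FusionSystem T} {F : FusionSystem S}
    (hidx : E.HasPPowerIndexIn F p) : E.hyperfocalSubgroup p = F.hyperfocalSubgroup p := by
  have hTS := le_of_sub hidx.1
  refine le_antisymm (hyp_mono hidx.1 p) ?_
  rw [hyp_le_iff]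
  intro P hP α hα ho x
  have hT : ∀ y : P, (y : Ω)⁻¹ * (α y : P) ∈ T := fun y =>
    hidx.2.1 (hyp_le_iff.1 le_rfl P hP α hα ho y)
  -- restriction to `P ⊓ T`
  have hinv : ∀ (y : Ω) (hy : y ∈ P ⊓ T), ((α ⟨y, hy.1⟩ : P) : Ω) ∈ P ⊓ T := by
    intro y hy
    refine ⟨(α _).2, ?_⟩
    have h1 := hT ⟨y, hy.1⟩
    have h2 : ((α ⟨y, hy.1⟩ : P) : Ω) = y * (y⁻¹ * (α ⟨y, hy.1⟩ : P)) := by group
    rw [h2]
    exact T.mul_mem hy.2 h1
  obtain ⟨β, hβ, hβe, hβo⟩ := exists_restrict_aut hP hα (inf_le_left : P ⊓ T ≤ P) hinv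
  have hβo' : (orderOf β).Coprime p := ho.coprime_dvd_left hβo
  have hβE : β ∈ E.autGroup (P ⊓ T : Subgroup Ω) :=
    mem_autGroup_of_coprime hidx inf_le_right hβ hβo'
  have hPp : IsPGroup p P := hS.to_le hP
  have h := mem_of_chain_of_coprime hPp α ho (T.subgroupOf P)
    ((E.hyperfocalSubgroup p).subgroupOf P) ?_ ?_ x ?_
  · exact h
  · intro d hd
    exact (hinv d ⟨d.2, hd⟩).2
  · intro d hd
    have h1 := hyp_le_iff.1 (le_refl (E.hyperfocalSubgroup p)) (P ⊓ T) inf_le_right β hβE hβo'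
      ⟨d, d.2, hd⟩
    rw [hβe] at h1
    exact h1
  · exact hT x

/-- For saturated `E₁` over the finite `p`-group `T`: if `Aut_{E₂}(P)` contains all elements of `Aut_{E₁}(P)` of
order prime to `p`, for all `P ≤ T`, then `E₁ ≤ E₂`. -/
theorem le_of_coprime_aut [Finite T] {p : ℕ} [Fact p.Prime] (hT : IsPGroup p T)
    {E₁ E₂ : FusionSystem T} (h₁ : E₁.IsSaturated p)
    (h : ∀ P ≤ T, ∀ α ∈ E₁.autGroup P, (orderOf α).Coprime p → α ∈ E₂.autGroup P)
    (P : Subgroup Ω) : E₁.Hom P ⊆ E₂.Hom P := by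
  refine le_of_autGroup_le hT h₁ E₂ (fun Q hQ _ => ?_) P
  have hQT := hQ.1
  have hfin : Finite Q := finite_of_le hQT
  obtain ⟨-, R, hR⟩ := isFullyAutomized_of_isFullyNormalized hT h₁ hQ
  have hgen := Cfsg.Agent.Transfer.Residual.pResidual_sup_sylow R
  intro α hα
  have h1 : (⟨α, hα⟩ : E₁.autGroup Q) ∈ pResidual p (E₁.autGroup Q) ⊔ (R : Subgroup _) := by
    rw [hgen]
    exact Subgroup.mem_top _
  have h2 : pResidual p (E₁.autGroup Q) ⊔ (R : Subgroup _) ≤
      (E₂.autGroup Q).comap (E₁.autGroup Q).subtype := by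
    refine sup_le ?_ ?_
    · refine (Subgroup.closure_le _).2 fun β hβ => ?_
      refine h Q hQT β β.2 ?_
      rw [Subgroup.orderOf_coe]
      exact hβ
    · rw [hR]
      intro β hβ
      exact autInducedBy_le_autGroup E₂ hQT hβ
  exact h2 h1

/-- Two saturated subsystems of `p`-power index over the same `T` are equal. -/
theorem ppow_unique [Finite S] {p : ℕ} [Fact p.Prime] (hS : IsPGroup p S)
    {F : FusionSystem S} {E₁ E₂ : FusionSystem T} (h₁ : E₁.IsSaturated p)
    (h₂ : E₂.IsSaturated p) (hi₁ : E₁.HasPPowerIndexIn F p) (hi₂ : E₂.HasPPowerIndexIn F p) :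
    E₁ = E₂ := by
  have hTS := le_of_sub hi₁.1
  have hfin : Finite T := finite_of_le hTS
  have hT : IsPGroup p T := hS.to_le hTS
  refine fus_ext_le ?_ ?_
  · exact le_of_coprime_aut hT h₁ fun P hP α hα ho =>
      mem_autGroup_of_coprime hi₂ hP (autGroup_mono' hi₁.1 P hα) ho
  · exact le_of_coprime_aut hT h₂ fun P hP α hα ho =>
      mem_autGroup_of_coprime hi₁ hP (autGroup_mono' hi₂.1 P hα) ho

/-- Every system has `p`-power index in itself. -/
theorem ppow_refl [Finite S] {p : ℕ} (F : FusionSystem S) : F.HasPPowerIndexIn F p := by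
  refine ⟨fun P => le_rfl, ?_, ?_⟩
  · rw [hyp_le_iff]
    intro P hP α hα _ x
    exact S.mul_mem (S.inv_mem (hP x.2)) (hP (α x).2)
  · rintro P _ _ ⟨α, -, rfl⟩
    exact α.2

/-- Transitivity: a subsystem of `p`-power index of a subsystem of `p`-power index. -/
theorem ppow_trans [Finite S] {p : ℕ} (hS : IsPGroup p S) {U : Subgroup Ω}
    {F : FusionSystem S} {E : FusionSystem T} {D : FusionSystem U}
    (hE : E.HasPPowerIndexIn F p) (hD : D.HasPPowerIndexIn E p) : D.HasPPowerIndexIn F p := by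
  have hUT := le_of_sub hD.1
  refine ⟨fun P => (hD.1 P).trans (hE.1 P), ?_, ?_⟩
  · rw [← hyp_eq hS hE]
    exact hD.2.1
  · intro P hP
    rw [Subgroup.map_le_iff_le_comap]
    refine (Subgroup.closure_le _).2 fun α hα => ?_
    have ho : (orderOf (α : MulAut P)).Coprime p := by
      rw [Subgroup.orderOf_coe]
      exact hα
    exact mem_autGroup_of_coprime hD hP (mem_autGroup_of_coprime hE (hP.trans hUT) α.2 ho) ho

/-- If `D ≤ E ≤ F` with `D` of `p`-power index in `F`, then `D` has `p`-power index in `E`. -/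
theorem ppow_of_le {p : ℕ} {U : Subgroup Ω}
    {F : FusionSystem S} {E : FusionSystem T} {D : FusionSystem U}
    (hEF : E.IsSubsystemOf F) (hDE : D.IsSubsystemOf E) (hD : D.HasPPowerIndexIn F p) :
    D.HasPPowerIndexIn E p := by
  refine ⟨hDE, (hyp_mono hEF p).trans hD.2.1, fun P hP => ?_⟩
  rw [Subgroup.map_le_iff_le_comap]
  refine (Subgroup.closure_le _).2 fun α hα => ?_
  have ho : (orderOf (α : MulAut P)).Coprime p := by
    rw [Subgroup.orderOf_coe]
    exact hα
  exact mem_autGroup_of_coprime hD hP (autGroup_mono' hEF P α.2) ho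

end Cfsg.Agent.H770
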