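import Cfsg.Agent.H770.Steps

/-!
# The step of index prime to `p` (helper770)
-/

set_option autoImplicit false
set_option linter.unusedVariables false

namespace Cfsg.Agent.H770

open Cfsg Cfsg.FusionSystem Cfsg.Agent.H752 Cfsg.Agent.H756

variable {Ω : Type*} [Group Ω] {S T U : Subgroup Ω} {p : ℕ}

namespace Step

variable [Finite S] [Fact p.Prime] {E : FusionSystem T} {F : FusionSystem S}
  {K : Subgroup (MulAut T)} {G : FusionSystem U}

theorem pprime (h : Step p E F K G) (hS : IsPGroup p S) {K' : Subgroup (MulAut T)}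
    (hK'K : K' ≤ K) (hK'n : ∀ a ∈ F.autGroup T, ∀ k ∈ K', a * k * a⁻¹ ∈ K')
    (hEK' : E.autGroup T ≤ K') (hp : ∀ k ∈ K, ∀ n : ℕ, k ^ p ^ n ∈ K' → k ∈ K') :
    Step p E F K' (charSys E G K') := by
  have hfU : Finite U := H802.finite_of_le h.US
  have hfT : Finite T := H802.finite_of_le (h.TU.trans h.US)
  have hTS : T ≤ S := h.TU.trans h.US
  have hUp : IsPGroup p U := hS.to_le h.US
  have hCD : CharData p E G K' := by
    refine ⟨hUp, h.enorm.1, by rw [h.aut]; exact hK'K, fun a ha k hk =>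
      hK'n a (autGroup_mono' h.GF T ha) k hk, hEK', fun a ha n hn => hp a ?_ n hn⟩
    rwa [h.aut] at ha
  have hPD := hCD.pdata
  have hsat : (charSys E G K').IsSaturated p := hPD.isSaturated hUp h.Gs
  have hUF : F.StronglyClosed U := h.norm.1.2.2.2.1
  have haut : (charSys E G K').autGroup T = K' := hCD.autGroup_T
  have hNK : NK S T K' = NK S T K := by
    refine le_antisymm (NK_mono hK'K) ?_
    rintro s ⟨hs, hsn, κ, hκ, h1⟩
    refine ⟨hs, hsn, κ, ?_, h1⟩
    have h2 : κ = H759.conjAut T s hsn := by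
      ext x
      rw [← ac_apply _ x.2, ← h1 x x.2]
      rfl
    obtain ⟨n, hn⟩ := conjAut_ppow (p := p) hS hs hsn
    refine hp κ hκ n ?_
    rw [h2, hn]
    exact one_mem _
  refine ⟨h.hEF, by rw [hNK]; exact h.hU, ?_, haut, ?_, ?_⟩
  · refine h.norm_of le_rfl hsat CharData.charSys_sub hUF h.TU h.CU (h.invC_charSys hK'K hK'n) ?_
    intro P f hP hf
    obtain ⟨a, ha⟩ := hPD.frat hUp h.Gs P f hf
    exact ha.fratC le_rfl
  · refine isNormalIn_restrict hUp h.enorm CharData.charSys_sub hsat hCD.E_sub fun a ha => ?_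
    obtain ⟨b, hb, h1, h2⟩ := ((isNormalIn_iff h.TU).1 h.enorm).2.2.2 a ha
    refine ⟨b, CharData.mp_of_ke (hCD.qt_self le_sup_left hb.le) hb ⟨1, one_mem _, Fr.one ?_⟩, h1, h2⟩
    exact (ha.res inf_le_right).congr fun x hx => h1 x hx.2
  · intro V W L₁ L₂ h₁ h₂
    obtain ⟨V', L, hL⟩ := exists_limit' hUp h.Gs
    exact (h.limit L₁ L h₁ hL).trans
      (limit_pidx hUp h.Gs hsat (hPD.primeIndex hUp h.Gs) hL h₂)

end Step

end Cfsg.Agent.H770
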