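import Cfsg.Agent.H770.StepB

/-!
# The step of `p`-power index (helper770)
-/

set_option autoImplicit false
set_option linter.unusedVariables false

namespace Cfsg.Agent.H770

open Cfsg Cfsg.FusionSystem Cfsg.Agent.H752 Cfsg.Agent.H756

variable {Ω : Type*} [Group Ω] {S T U : Subgroup Ω} {p : ℕ}

namespace Step

variable [Finite S] [Fact p.Prime] {E : FusionSystem T} {F : FusionSystem S}
  {K : Subgroup (MulAut T)} {G : FusionSystem U}

/-- An element is a product of a `p`-element and a `p'`-element among its powers. -/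
theorem mem_of_parts {A : Type*} [Group A] {K : Subgroup A} {g : A}
    (h1 : ∀ j : ℤ, (∃ n : ℕ, (g ^ j) ^ p ^ n = 1) → g ^ j ∈ K)
    (h2 : ∀ j : ℤ, (orderOf (g ^ j)).Coprime p → g ^ j ∈ K) [Finite A] : g ∈ K := by
  obtain ⟨a, b, hab, ⟨k, hk⟩, hb⟩ := TwoFusion.PResidual.exists_pPart_mul_pPrimePart p g
  have h3 := h1 a ⟨k, by rw [← hk]; exact pow_orderOf_eq_one _⟩
  have h4 := h2 b hb
  rw [hab]
  exact mul_mem h3 h4

theorem conjAut_mem_of_NK {K' : Subgroup (MulAut T)} {s : Ω} (hs : s ∈ NK S T K')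
    (hsn : s ∈ Subgroup.normalizer (T : Set Ω)) : H759.conjAut T s hsn ∈ K' := by
  obtain ⟨-, -, κ, hκ, h1⟩ := hs
  have h2 : H759.conjAut T s hsn = κ := by
    ext x
    rw [H759.coe_conjAut, h1 x x.2, ac_apply _ x.2]
  rw [h2]
  exact hκ

theorem ppow (h : Step p E F K G) (hS : IsPGroup p S) {K' : Subgroup (MulAut T)}
    (hK'K : K' ≤ K) (hK'n : ∀ a ∈ F.autGroup T, ∀ k ∈ K', a * k * a⁻¹ ∈ K')
    (hEK' : E.autGroup T ≤ K') (hp : ∀ k ∈ K, ∃ n : ℕ, k ^ p ^ n ∈ K') :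
    ∃ (U' : Subgroup Ω) (G' : FusionSystem U'), Step p E F K' G' := by
  have hfU : Finite U := H802.finite_of_le h.US
  have hfT : Finite T := H802.finite_of_le (h.TU.trans h.US)
  have hTS : T ≤ S := h.TU.trans h.US
  have hUp : IsPGroup p U := hS.to_le h.US
  have hTp : IsPGroup p T := hS.to_le hTS
  have hTF : F.StronglyClosed T := h.hEF.1.2.2.2.1
  have hUF : F.StronglyClosed U := h.norm.1.2.2.2.1
  have hTU' : T ≤ NK S T K' := le_NK hTS hEK'
  have hU'U : NK S T K' ≤ U := by rw [h.hU]; exact NK_mono hK'K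
  have hU'F : F.StronglyClosed (NK S T K') := nk_stronglyClosed hS h.Fs hTF hK'n hTU'
  have hfU' : Finite (NK S T K') := H802.finite_of_le hU'F.1
  have hU'p : IsPGroup p (NK S T K') := hS.to_le hU'F.1
  have hTG : G.StronglyClosed T := h.enorm.1.2.2.2.1
  have hU'G : G.StronglyClosed (NK S T K') :=
    ⟨hU'U, fun R hR φ hφ x => hU'F.2 R hR φ (h.GF R hφ) x⟩
  have hK'nG : ∀ a ∈ G.autGroup T, ∀ k ∈ K', a * k * a⁻¹ ∈ K' := fun a ha k hk =>
    hK'n a (autGroup_mono' h.GF T ha) k hk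
  have hpG : ∀ a ∈ G.autGroup T, (orderOf a).Coprime p → a ∈ K' := by
    intro a ha hc
    rw [h.aut] at ha
    obtain ⟨n, hn⟩ := hp a ha
    refine mem_of_pow_mem_of_coprime (n := p ^ n) (m := orderOf a) ?_ hn (hc.pow_right n)
    rw [pow_orderOf_eq_one]
    exact one_mem _
  have hhyp : G.hyperfocalSubgroup p ≤ NK S T K' := by
    refine (hyp_le_NK hUp h.Gs hTG hK'nG hpG fun t ht => ?_).trans ?_
    · obtain ⟨h1, h2⟩ := hTU' ht
      exact ⟨h.TU ht, h2⟩
    · rintro s ⟨h1, h2⟩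
      exact ⟨h.US h1, h2⟩
  obtain ⟨G', ⟨hG's, hG'i⟩, -⟩ := S5113.result p hUp G h.Gs _ hU'U hhyp
  have hprime : ∀ P : Subgroup Ω, P ≤ NK S T K' → ∀ α ∈ G.autGroup P,
      Nat.Coprime (orderOf α) p → α ∈ G'.autGroup P := fun P hP α hα hc =>
    mem_autGroup_of_coprime hG'i hP hα hc
  obtain ⟨-, -, hGI, hGFr⟩ := isInvariantIn_iff.1 h.norm.1.2.2
  have hI : InvC G' F := invC_ppow hU'p hU'F hG's hG'i (strongInvC_of_invC hGI hGFr)
  have hnorm : G'.IsNormalIn G p := isNormalIn_of_pPowerIndex hUp h.Gs hU'U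
    (fun s hs t ht => H759.StronglyClosed.conj_mem hU'G hs ht) hhyp hG's hG'i
  obtain ⟨-, -, hG'I, hG'Fr⟩ := isInvariantIn_iff.1 hnorm.1.2.2
  have hSI := strongInvC_of_invC hG'I hG'Fr
  have hTG' : G'.StronglyClosed T :=
    ⟨hTU', fun R hR φ hφ x => hTG.2 R hR φ (hG'i.1 R hφ) x⟩
  have haut : G'.autGroup T = K' := by
    apply le_antisymm
    · intro α hα
      refine mem_of_parts (p := p) (fun j ⟨n, hn⟩ => ?_) (fun j hc =>
        hpG _ (zpow_mem (autGroup_mono' hG'i.1 T hα) j) hc)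
      obtain ⟨γ, hγ, s, hs, hsn, h1⟩ := exists_conj_T hG's hTG' (zpow_mem hα j) hn
      have h2 := conjAut_mem_of_NK hs hsn
      have h3 := hK'n _ (inv_mem (autGroup_mono' hG'i.1 T hγ |> autGroup_mono' h.GF T)) _ h2
      rw [← h1] at h3
      have h4 : γ⁻¹ * (γ * α ^ j * γ⁻¹) * γ⁻¹⁻¹ = α ^ j := by group
      rwa [h4] at h3
    · intro κ hκ
      have hκG : κ ∈ G.autGroup T := by rw [h.aut]; exact hK'K hκ
      refine mem_of_parts (p := p) (fun j ⟨n, hn⟩ => ?_) (fun j hc =>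
        hprime T hTU' _ (zpow_mem hκG j) hc)
      obtain ⟨γ, hγ, s, hs, hsn, h1⟩ := exists_conj_T h.Gs hTG (zpow_mem hκG j) hn
      have h2 := hK'nG _ hγ _ (zpow_mem hκ j)
      rw [h1] at h2
      have hsU' : s ∈ NK S T K' := ⟨h.US hs, hsn, _, h2, fun x hx => by rw [ac_apply _ hx]; rfl⟩
      have h3 : H759.conjAut T s hsn ∈ G'.autGroup T := conjAut_mem_autGroup hTU' hsU' hsn
      apply mem_of_mp_ac
      refine hSI T T T (ac (H759.conjAut T s hsn)) (ac γ⁻¹) (ac (κ ^ j)) le_rfl hTU'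
        (mp_ac hTU' h3) (fun x hx => ac_mem _ hx) (mp_ac h.TU (inv_mem hγ)) fun y hy => ?_
      refine ⟨ac γ y, ac_mem _ hy, ac_inv_ac γ hy, ?_⟩
      rw [← h1, ← ac_mul _ _ hy, ← ac_mul _ _ hy]
      congr 1
      group
  have hEG' : E.IsSubsystemOf G' := sub_of_coprime hTp h.enorm.1.1 hTU' fun P hP α hα hc =>
    hprime P (hP.trans hTU') α (autGroup_mono' h.EG P hα) hc
  refine ⟨_, G', h.hEF, rfl, ?_, haut, ?_, ?_⟩
  · exact h.norm_of hU'U hG's hG'i.1 hU'F hTU' centralizerIn_le_NK hI hG'Fr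
  · refine isNormalIn_restrict hU'p h.enorm hG'i.1 hG's hEG' fun a ha =>
      extC_of_prime hU'p h.enorm.1.1 hTU' (fun α hα hc => ?_) a ha
    have hCC : centralizerIn (NK S T K') T = centralizerIn U T :=
      le_antisymm (inf_le_inf_right _ hU'U) (le_inf (by rw [h.cent_eq]; exact centralizerIn_le_NK)
        inf_le_right)
    obtain ⟨b, hb, h1, h2⟩ := ((isNormalIn_iff h.TU).1 h.enorm).2.2.2 _ (mp_ac le_rfl hα)
    have hfm : ∀ x ∈ T, ac α x ∈ T := fun x hx => ac_mem _ hx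
    have hsU : T ⊔ centralizerIn U T ≤ U := hb.le
    have hfs : Finite (T ⊔ centralizerIn U T : Subgroup Ω) := H802.finite_of_le hsU
    obtain ⟨β, hβ, h3⟩ := exists_ac hb (ExtC.maps_sup h.TU hb hfm h1 h2)
    obtain ⟨r, hr, hrc⟩ := exists_pow_coprime (orderOf_pos β) hc
    have hTs : T ≤ T ⊔ centralizerIn U T := le_sup_left
    have hCs : centralizerIn U T ≤ T ⊔ centralizerIn U T := le_sup_right
    have h4 : ∀ n : ℕ, ∀ x ∈ T, ac (β ^ n) x = ac (α ^ n) x := by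
      intro n
      induction n with
      | zero => intro x hx; rw [pow_zero, pow_zero, ac_one hx, ac_one (hTs hx)]
      | succ n ih =>
        intro x hx
        rw [pow_succ, pow_succ, ac_mul _ _ hx, ac_mul _ _ (hTs hx), ← h3 x (hTs hx), h1 x hx,
          ih _ (ac_mem _ hx)]
    have h5 : ∀ n : ℕ, ∀ c ∈ centralizerIn U T, c⁻¹ * ac (β ^ n) c ∈
        T ⊓ Subgroup.centralizer (T : Set Ω) := by
      intro n
      induction n with
      | zero =>
        intro c hc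
        rw [pow_zero, ac_one (hCs hc), inv_mul_cancel]
        exact one_mem _
      | succ n ih =>
        intro c hc
        rw [pow_succ, ac_mul _ _ (hCs hc), ← h3 c (hCs hc)]
        have h6 := ExtC.maps h.TU hc (h2 c hc)
        have h7 : c⁻¹ * ac (β ^ n) (b c) = (c⁻¹ * b c) * ((b c)⁻¹ * ac (β ^ n) (b c)) := by group
        rw [h7]
        exact mul_mem (h2 c hc) (ih _ h6)
    have h6 : α ^ r = α := by
      have := pow_eq_pow_iff_modEq.2 hr
      rwa [pow_one] at this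
    have h7 : β ^ r ∈ G'.autGroup (T ⊔ centralizerIn U T) :=
      hprime _ (sup_le hTU' (by rw [← hCC]; exact inf_le_left)) _ (pow_mem hβ r) hrc
    refine ⟨ac (β ^ r), ?_, fun x hx => ?_, fun c hc => ?_⟩
    · rw [hCC]
      exact mp_ac (sup_le hTU' (by rw [← hCC]; exact inf_le_left)) h7
    · rw [h4 r x hx, h6]
      rfl
    · rw [hCC] at hc
      exact h5 r c hc
  · intro V W L₁ L₂ h₁ h₂
    obtain ⟨V', L, hL⟩ := exists_limit' hUp h.Gs
    exact (h.limit L₁ L h₁ hL).trans (limit_ppow hUp h.Gs hG's hG'i hL h₂)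

end Step

end Cfsg.Agent.H770
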