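import Cfsg.Agent.H770.StepC

/-!
# Descent along a `p`-solvable quotient `Aut_F(T)/Aut_E(T)` (helper770)
-/

set_option autoImplicit false
set_option linter.unusedVariables false

namespace Cfsg.Agent.H770

open Cfsg Cfsg.FusionSystem Cfsg.Agent.H752 Cfsg.Agent.H756

variable {Ω : Type*} [Group Ω] {S T U : Subgroup Ω} {p : ℕ}

namespace Step

variable [Finite S] [Fact p.Prime] {E : FusionSystem T} {F : FusionSystem S}
  {K : Subgroup (MulAut T)} {G : FusionSystem U}

omit [Finite S] in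
/-- The last stage lives over `T C_S(T)`. -/
theorem nk_autGroup [Finite T] (hE : E.IsSaturated p) (hTS : T ≤ S) (hS : IsPGroup p S) :
    NK S T (E.autGroup T) = T ⊔ centralizerIn S T := by
  apply le_antisymm
  · rintro s ⟨hs, hsn, κ, hκ, h1⟩
    obtain ⟨n, hn⟩ := hS ⟨s, hs⟩
    have hn' : s ^ p ^ n = 1 := congrArg Subtype.val hn
    have hκn : κ ^ p ^ n = 1 := by
      have key : ∀ m : ℕ, ∀ x ∈ T, ac (κ ^ m) x = s ^ m * x * (s ^ m)⁻¹ := by
        intro m
        induction m with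
        | zero => intro x hx; rw [pow_zero, ac_one hx]; simp
        | succ m ih =>
          intro x hx
          rw [pow_succ', ac_mul _ _ hx, ← h1 _ (ac_mem _ hx), ih x hx, pow_succ']
          group
      ext x
      rw [← ac_apply _ x.2, key _ x x.2, hn']
      simp
    have hTT : E.StronglyClosed T := ⟨le_rfl, fun R _ φ hφ x => (E.le_of_mem hφ).2 x⟩
    obtain ⟨γ, hγ, t, ht, htn, h2⟩ := exists_conj_T hE hTT hκ hκn
    have ht' : ac γ⁻¹ t ∈ T := ac_mem _ ht
    have hm : Mp E T (ac γ⁻¹) := mp_ac le_rfl (inv_mem hγ)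
    have h3 : ∀ x ∈ T, ac κ x = ac γ⁻¹ t * x * (ac γ⁻¹ t)⁻¹ := by
      intro x hx
      have h4 : κ = γ⁻¹ * (H759.conjAut T t htn * γ) := by rw [← h2]; group
      rw [h4, ac_mul _ _ hx, ac_mul _ _ hx]
      have h5 : ac (H759.conjAut T t htn) (ac γ x) = t * ac γ x * t⁻¹ := by
        rw [ac_apply _ (ac_mem γ hx)]
        rfl
      rw [h5, hm.mul (mul_mem ht (ac_mem γ hx)) (inv_mem ht), hm.mul ht (ac_mem γ hx), hm.inv ht,
        ac_inv_ac γ hx]
    have h6 : s = ac γ⁻¹ t * ((ac γ⁻¹ t)⁻¹ * s) := by group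
    rw [h6]
    refine mul_mem ((le_sup_left : T ≤ _) ht') ((le_sup_right : centralizerIn S T ≤ _) ⟨?_, ?_⟩)
    · exact S.mul_mem (S.inv_mem (hTS ht')) hs
    · show _ ∈ Subgroup.centralizer (T : Set Ω)
      rw [Subgroup.mem_centralizer_iff]
      intro x hx
      have h7 := (h1 x hx).trans (h3 x hx)
      generalize ac γ⁻¹ t = r at h7 ht'
      have h8 : s * x = r * x * r⁻¹ * s := by rw [← h7]; group
      have h9 : r⁻¹ * s * x = r⁻¹ * (s * x) := by group
      rw [h9, h8]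
      group
  · exact sup_le (le_NK hTS le_rfl) centralizerIn_le_NK

/-- **Descent**. -/
theorem exists_of_pSolvable (hS : IsPGroup p S) (hE : E.IsNormalIn F p)
    [hn : ((E.autGroup T).subgroupOf (F.autGroup T)).Normal]
    (hsolv : IsPSolvable p (↥(F.autGroup T) ⧸ (E.autGroup T).subgroupOf (F.autGroup T))) :
    ∃ F₀ : FusionSystem (T ⊔ centralizerIn S T), Step p E F (E.autGroup T) F₀ := by
  have hTS : T ≤ S := hE.1.2.2.2.1.1
  have hfT : Finite T := H802.finite_of_le hTS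
  have hEF : E.IsSubsystemOf F := hE.1.2.2.1
  have hEFa : E.autGroup T ≤ F.autGroup T := autGroup_mono' hEF T
  obtain ⟨n, H, h0, hlast, hmono, hnorm, hidx⟩ := hsolv
  set N := (E.autGroup T).subgroupOf (F.autGroup T) with hN
  let Ks : Fin (n + 1) → Subgroup (MulAut T) := fun i =>
    ((H i).comap (QuotientGroup.mk' N)).map (F.autGroup T).subtype
  have hmem : ∀ i (k : MulAut T), k ∈ Ks i ↔
      ∃ hk : k ∈ F.autGroup T, ((⟨k, hk⟩ : F.autGroup T) : F.autGroup T ⧸ N) ∈ H i := by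
    intro i k
    constructor
    · rintro ⟨x, hx, rfl⟩
      exact ⟨x.2, hx⟩
    · rintro ⟨hk, hk'⟩
      exact ⟨⟨k, hk⟩, hk', rfl⟩
  have hE' : ∀ i, E.autGroup T ≤ Ks i := by
    intro i k hk
    refine (hmem i k).2 ⟨hEFa hk, ?_⟩
    have : ((⟨k, hEFa hk⟩ : F.autGroup T) : F.autGroup T ⧸ N) = 1 :=
      (QuotientGroup.eq_one_iff _).2 hk
    rw [this]
    exact one_mem _
  have hnormal : ∀ i, ∀ a ∈ F.autGroup T, ∀ k ∈ Ks i, a * k * a⁻¹ ∈ Ks i := by
    intro i a ha k hk
    obtain ⟨hk1, hk2⟩ := (hmem i k).1 hk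
    exact (hmem i _).2 ⟨mul_mem (mul_mem ha hk1) (inv_mem ha),
      (hnorm i).conj_mem _ hk2 ((⟨a, ha⟩ : F.autGroup T) : F.autGroup T ⧸ N)⟩
  have hKlast : Ks (Fin.last n) = F.autGroup T := by
    ext k
    rw [hmem]
    constructor
    · rintro ⟨hk, -⟩
      exact hk
    · intro hk
      exact ⟨hk, by rw [hlast]; exact Subgroup.mem_top _⟩
  have hK0 : Ks 0 = E.autGroup T := by
    refine le_antisymm (fun k hk => ?_) (hE' 0)
    obtain ⟨hk1, hk2⟩ := (hmem 0 k).1 hk
    rw [h0] at hk2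
    have h1 := Subgroup.mem_bot.1 hk2
    have h2 : (⟨k, hk1⟩ : F.autGroup T) ∈ N := (QuotientGroup.eq_one_iff _).1 h1
    exact h2
  have key : ∀ i : Fin (n + 1), ∃ (U : Subgroup Ω) (G : FusionSystem U), Step p E F (Ks i) G := by
    intro i
    induction i using Fin.reverseInduction with
    | last =>
      rw [hKlast]
      exact ⟨S, F, Step.start hS hE⟩
    | cast i ih =>
      obtain ⟨U, G, hG⟩ := ih
      have hle : Ks i.castSucc ≤ Ks i.succ := by
        intro k hk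
        obtain ⟨hk1, hk2⟩ := (hmem _ k).1 hk
        exact (hmem _ k).2 ⟨hk1, hmono (Fin.castSucc_lt_succ).le hk2⟩
      -- powers
      have hpow : ∀ k ∈ Ks i.succ, k ^ (H i.castSucc).relIndex (H i.succ) ∈ Ks i.castSucc := by
        intro k hk
        obtain ⟨hk1, hk2⟩ := (hmem _ k).1 hk
        have hnn : ((H i.castSucc).subgroupOf (H i.succ)).Normal :=
          @Subgroup.normal_subgroupOf _ _ _ _ (hnorm i.castSucc)
        have h1 := Subgroup.pow_index_mem (H := (H i.castSucc).subgroupOf (H i.succ))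
          ⟨_, hk2⟩
        refine (hmem _ _).2 ⟨pow_mem hk1 _, ?_⟩
        exact h1
      rcases hidx i with ⟨m, hm⟩ | hc
      · obtain ⟨U', G', hG'⟩ := hG.ppow hS hle (hnormal _) (hE' _) fun k hk =>
          ⟨m, by rw [← hm]; exact hpow k hk⟩
        exact ⟨U', G', hG'⟩
      · exact ⟨U, _, hG.pprime hS hle (hnormal _) (hE' _) fun k hk n hn =>
          mem_of_pow_mem_of_coprime (hpow k hk) hn (hc.pow_right n)⟩
  obtain ⟨U, G, hG⟩ := key 0
  rw [hK0] at hG
  have hU : U = T ⊔ centralizerIn S T := by rw [hG.hU, nk_autGroup hE.1.1 hTS hS]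
  subst hU
  exact ⟨G, hG⟩

end Step

end Cfsg.Agent.H770
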