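import Cfsg.Agent.H770.Limit2
import Cfsg.Agent.H770.CharSys

/-!
# Descending along a chain of normal subgroups of `Aut_F(T)` (helper770)
-/

set_option autoImplicit false
set_option linter.unusedVariables false

namespace Cfsg.Agent.H770

open Cfsg Cfsg.FusionSystem Cfsg.Agent.H752 Cfsg.Agent.H756

variable {Ω : Type*} [Group Ω] {S T U : Subgroup Ω} {p : ℕ}

/-! ### Tools -/

theorem normal_self [Finite S] {F : FusionSystem S} (hF : F.IsSaturated p) : F.IsNormalIn F p := by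
  rw [isNormalIn_iff le_rfl]
  refine ⟨hF, hF, isInvariantIn_iff.2 ⟨fun _ => le_rfl, ⟨le_rfl, fun R _ φ hφ x =>
    (F.le_of_mem hφ).2 x⟩, invC_self, fun P f _ hf => ⟨fun x => x, mp_id F le_rfl, f, hf,
    fun _ _ => rfl⟩⟩, fun a ha => ?_⟩
  have hle : centralizerIn S S ≤ S := inf_le_left
  refine ⟨a, by rwa [sup_eq_left.2 hle], fun _ _ => rfl, fun c hc => ?_⟩
  obtain ⟨hc1, hc2⟩ := hc
  have hc1' : c ∈ S := hc1
  have hc2' : c ∈ Subgroup.centralizer (S : Set Ω) := hc2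
  exact ⟨S.mul_mem (S.inv_mem hc1') (ha.mem hc1'),
    Subgroup.mul_mem _ (Subgroup.inv_mem _ hc2') (Mp.mem_centralizer ha le_rfl
      (Mp.im_of_maps ha fun x hx => ha.mem hx) hc1' hc2')⟩

/-- Normality from invariance when `C_S(U) ≤ U`. -/
theorem isNormalIn_of_centralizer [Finite S] {F : FusionSystem S} {G : FusionSystem U}
    (hF : F.IsSaturated p) (hG : G.IsSaturated p) (hI : G.IsInvariantIn F)
    (hC : centralizerIn S U ≤ U) : G.IsNormalIn F p := by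
  have hUS : U ≤ S := hI.2.1.1
  rw [isNormalIn_iff hUS]
  refine ⟨hG, hF, hI, fun a ha => ?_⟩
  have haF := mp_mono hI.1 ha
  have hfU : Finite U := H802.finite_of_le hUS
  refine ⟨a, by rwa [sup_eq_left.2 hC], fun _ _ => rfl, fun c hc => ?_⟩
  have hcU := hC hc
  obtain ⟨hc1, hc2⟩ := hc
  have hc2' : c ∈ Subgroup.centralizer (U : Set Ω) := hc2
  exact ⟨U.mul_mem (U.inv_mem hcU) (ha.mem hcU),
    Subgroup.mul_mem _ (Subgroup.inv_mem _ hc2') (Mp.mem_centralizer haF le_rfl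
      (Mp.im_of_maps haF fun x hx => ha.mem hx) hcU hc2')⟩

/-- Restriction of normality to a smaller overgroup system. -/
theorem isNormalIn_restrict [Finite S] [Fact p.Prime] {G : FusionSystem S} {G' : FusionSystem U}
    {E : FusionSystem T} (hU : IsPGroup p U)
    (hEG : E.IsNormalIn G p) (hG'G : G'.IsSubsystemOf G) (hG' : G'.IsSaturated p)
    (hEG' : E.IsSubsystemOf G') (hext : ∀ a, Mp E T a → ExtC G' T a) : E.IsNormalIn G' p := by
  have hUS : U ≤ S := le_of_sub hG'G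
  have hTU : T ≤ U := le_of_sub hEG'
  have hfU : Finite U := H802.finite_of_le hUS
  have hfT : Finite T := H802.finite_of_le hTU
  rw [isNormalIn_iff hTU]
  obtain ⟨⟨h1, h2, h3⟩, -⟩ := hEG
  refine ⟨h1, hG', ?_, hext⟩
  obtain ⟨h4, h5, h6, h7⟩ := isInvariantIn_iff.1 h3
  have hSI := strongInvC_of_invC h6 h7
  have hT : G'.StronglyClosed T :=
    ⟨hTU, fun R hR φ hφ x => h5.2 R hR φ (hG'G R hφ) x⟩
  rw [isInvariantIn_iff_strongInvC hU hG' hEG' hT]
  intro P Q R f g h hPQ hQT hf hfQ hg hR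
  exact hSI P Q R f g h hPQ hQT hf hfQ (mp_mono hG'G hg) hR

theorem NK_mono {K K' : Subgroup (MulAut T)} (h : K' ≤ K) : NK S T K' ≤ NK S T K := by
  rintro s ⟨h1, h2, κ, hκ, h3⟩
  exact ⟨h1, h2, κ, h hκ, h3⟩

theorem centralizerIn_le_NK {K : Subgroup (MulAut T)} : centralizerIn S T ≤ NK S T K := by
  rintro s ⟨h1, h2⟩
  refine ⟨h1, Subgroup.centralizer_le_normalizer _ h2, 1, one_mem _, fun x hx => ?_⟩
  rw [ac_one hx]
  have h3 : x * s = s * x := Subgroup.mem_centralizer_iff.1 h2 x hx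
  rw [← h3]; group

theorem le_NK {E : FusionSystem T} {K : Subgroup (MulAut T)} (hTS : T ≤ S)
    (h : E.autGroup T ≤ K) : T ≤ NK S T K := by
  intro t ht
  refine ⟨hTS ht, Subgroup.le_normalizer ht, _, h (conjAut_mem_autGroup le_rfl ht
    (Subgroup.le_normalizer ht)), fun x hx => ?_⟩
  rw [ac_apply _ hx]
  rfl

/-- `NK S T K` is strongly closed. -/
theorem nk_stronglyClosed [Finite S] [Fact p.Prime] (hS : IsPGroup p S) {F : FusionSystem S}
    (hF : F.IsSaturated p) (hT : F.StronglyClosed T) {K : Subgroup (MulAut T)}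
    (hKn : ∀ a ∈ F.autGroup T, ∀ k ∈ K, a * k * a⁻¹ ∈ K) (hTK : T ≤ NK S T K) :
    F.StronglyClosed (NK S T K) := by
  have hfT : Finite T := H802.finite_of_le hT.1
  refine ⟨fun s hs => hs.1, fun R hR φ hφ x => ?_⟩
  obtain ⟨ψ, hψ, h1⟩ := H759.exists_lift hS hF hT R φ hφ
  have hψm := mp_ex hψ
  have hxR : (x : Ω) ∈ R ⊔ T := (le_sup_left : R ≤ _) x.2
  have h2 := h1 x hxR
  obtain ⟨b, hb, hbe⟩ := exists_ac (hψm.res le_sup_right) fun y hy =>
    mp_mem_of_stronglyClosed hT hψm ((le_sup_right : T ≤ _) hy) hy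
  obtain ⟨hxS, hxn, κ, hκ, h3⟩ := hR x.2
  have h4 : ψ ⟨x, hxR⟩ ∈ NK S T K := by
    have h5 : ex ψ x ∈ S := hψm.mem hxR
    rw [ex_apply _ hxR] at h5
    refine ⟨h5, H759.StronglyClosed.le_normalizer hT h5, b * κ * b⁻¹, hKn b hb κ hκ,
      fun y hy => ?_⟩
    have h6 : ex ψ (ac b⁻¹ y) = y := by rw [hbe _ (ac_mem _ hy), ac_ac_inv b hy]
    have h7 : ac b⁻¹ y ∈ R ⊔ T := (le_sup_right : T ≤ _) (ac_mem _ hy)
    rw [ac_mul _ _ hy, ac_mul _ _ (ac_mem _ hy), ← h3 _ (ac_mem _ hy),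
      ← hbe _ ((Subgroup.mem_normalizer_iff.1 hxn _).1 (ac_mem _ hy)),
      hψm.mul (mul_mem hxR h7) (inv_mem hxR), hψm.mul hxR h7, hψm.inv hxR, h6,
      ex_apply _ hxR]
  have h5 : φ x = ψ ⟨x, hxR⟩ * ((φ x)⁻¹ * ψ ⟨x, hxR⟩)⁻¹ := by group
  rw [h5]
  exact mul_mem h4 (inv_mem (hTK h2))

/-- The stage of the descent attached to `K`. -/
structure Step (p : ℕ) (E : FusionSystem T) (F : FusionSystem S) (K : Subgroup (MulAut T))
    {U : Subgroup Ω} (G : FusionSystem U) : Prop where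
  hEF : E.IsNormalIn F p
  hU : U = NK S T K
  norm : G.IsNormalIn F p
  aut : G.autGroup T = K
  enorm : E.IsNormalIn G p
  limit : ∀ {V W : Subgroup Ω} (L₁ : FusionSystem V) (L₂ : FusionSystem W),
    L₁.IsResidualLimitOf F p → L₂.IsResidualLimitOf G p → HomEq L₁ L₂

namespace Step

variable [Finite S] [Fact p.Prime] {E : FusionSystem T} {F : FusionSystem S}
  {K : Subgroup (MulAut T)} {G : FusionSystem U}

/-- The initial stage. -/
theorem start (hS : IsPGroup p S) (hE : E.IsNormalIn F p) : Step p E F (F.autGroup T) F := by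
  have hT : F.StronglyClosed T := hE.1.2.2.2.1
  refine ⟨hE, ?_, normal_self hE.1.2.1, rfl, hE, fun L₁ L₂ h₁ h₂ =>
    limit_unique h₁ h₂ inferInstance inferInstance hS⟩
  refine le_antisymm (fun s hs => ?_) (fun s hs => hs.1)
  have hsn := H759.StronglyClosed.le_normalizer hT hs
  exact ⟨hs, hsn, _, conjAut_mem_autGroup hT.1 hs hsn, fun x hx => by rw [ac_apply _ hx]; rfl⟩

section facts

variable (h : Step p E F K G)

include h

omit [Finite S] [Fact p.Prime] in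
theorem US : U ≤ S := by rw [h.hU]; exact fun s hs => hs.1

omit [Finite S] [Fact p.Prime] in
theorem TU : T ≤ U := le_of_sub h.enorm.1.2.2.1

omit [Finite S] [Fact p.Prime] in
theorem GF : G.IsSubsystemOf F := h.norm.1.2.2.1

omit [Finite S] [Fact p.Prime] in
theorem EG : E.IsSubsystemOf G := h.enorm.1.2.2.1

omit [Finite S] [Fact p.Prime] in
theorem EF : E.IsSubsystemOf F := fun P => (h.EG P).trans (h.GF P)

omit [Finite S] [Fact p.Prime] in
theorem Gs : G.IsSaturated p := h.norm.1.1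

omit [Finite S] [Fact p.Prime] in
theorem Fs : F.IsSaturated p := h.norm.1.2.1

omit [Finite S] [Fact p.Prime] in
theorem KF : K ≤ F.autGroup T := by rw [← h.aut]; exact autGroup_mono' h.GF T

omit [Finite S] [Fact p.Prime] in
theorem CU : centralizerIn S T ≤ U := by rw [h.hU]; exact centralizerIn_le_NK

omit [Finite S] [Fact p.Prime] in
theorem cent_eq : centralizerIn U T = centralizerIn S T :=
  le_antisymm (inf_le_inf_right _ h.US) (le_inf h.CU inf_le_right)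

omit [Finite S] [Fact p.Prime] in
/-- Common part of the two steps: normality in `F`. -/
theorem norm_of [Finite S] {U' : Subgroup Ω} {G' : FusionSystem U'} (hU'U : U' ≤ U)
    (hG's : G'.IsSaturated p) (hG'G : G'.IsSubsystemOf G) (hU' : F.StronglyClosed U')
    (hTU' : T ≤ U') (hCU' : centralizerIn S T ≤ U') (hI : InvC G' F)
    (hFr : ∀ (P : Subgroup Ω) (f : Ω → Ω), P ≤ U' → Mp G P f → FratC G' G P f) :
    G'.IsNormalIn F p := by
  have hfU' : Finite U' := H802.finite_of_le hU'.1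
  have hfU : Finite U := H802.finite_of_le h.US
  refine isNormalIn_of_centralizer h.Fs hG's ?_ ?_
  · rw [isInvariantIn_iff]
    refine ⟨fun P => (hG'G P).trans (h.GF P), hU', hI, fun P f hPU' hf => ?_⟩
    obtain ⟨-, -, -, hFrG⟩ := isInvariantIn_iff.1 h.norm.1.2.2
    exact fratC_trans hU'U hU' h.GF hG'G hPU' (hFrG P f (hPU'.trans hU'U) hf) hFr
  · exact (inf_le_inf_left S (Subgroup.centralizer_le hTU')).trans hCU'

end facts

/-! ### The step of index prime to `p` -/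

/-- The maps of `G` all of whose conjugates under `Aut_F(U)` lie in `D`. -/
noncomputable def coreG [Finite U] {F : FusionSystem S} (hU : F.StronglyClosed U)
    (G D : FusionSystem U) : FusionSystem U :=
  subSys G U (fun P f => ∀ (a h : Ω → Ω) (R : Subgroup Ω), Mp F U a →
      (∀ y ∈ R, ∃ x ∈ P, a x = y ∧ h y = a (f x)) → Mp D R h)
    (by
      intro P f g hf h he a k R ha hR
      refine h a k R ha fun y hy => ?_
      obtain ⟨x, hx, h1, h2⟩ := hR y hy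
      exact ⟨x, hx, h1, by rw [h2, he x hx]⟩)
    (fun P f hf _ => ⟨hf.le, fun x hx => hf.mem hx⟩)
    (by
      intro P hP s hs
      refine ⟨mp_conj G hP hs, fun a h R ha hR => ?_⟩
      have ham : ∀ x ∈ U, a x ∈ U := fun x hx => mp_mem_of_stronglyClosed hU ha hx hx
      have hRS : R ≤ U := by
        intro y hy
        obtain ⟨x, hx, rfl, -⟩ := hR y hy
        exact ham x (hP hx)
      refine (mp_conj D hRS (ham s hs)).congr fun y hy => ?_
      obtain ⟨x, hx, rfl, h2⟩ := hR y hy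
      rw [h2, ha.mul (mul_mem hs (hP hx)) (inv_mem hs), ha.mul hs (hP hx), ha.inv hs])
    (by
      intro P Q f g hf hg h1 h2 hPQ a h R ha hR
      obtain ⟨b, hb, hb1, hb2⟩ := exists_inv_T hU ha
      obtain ⟨Q', hQ', hQ'S, -⟩ := Mp.exists_im ha hg.le
      have h3 : Mp D R (fun y => a (f (b y))) := h1 a _ R ha fun y hy => by
        obtain ⟨x, hx, rfl, -⟩ := hR y hy
        exact ⟨x, hx, rfl, by rw [hb1 x (hf.le hx)]⟩
      have h4 : Mp D Q' (fun y => a (g (b y))) := h2 a _ Q' ha fun y hy => by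
        obtain ⟨x, hx, rfl⟩ := (hQ' y).1 hy
        exact ⟨x, hx, rfl, by rw [hb1 x (hg.le hx)]⟩
      refine (h3.comp h4 ?_).congr ?_
      · intro y hy
        obtain ⟨x, hx, rfl, -⟩ := hR y hy
        rw [hb1 x (hf.le hx)]
        exact hQ'.apply (hPQ x hx)
      · intro y hy
        obtain ⟨x, hx, rfl, h5⟩ := hR y hy
        show h (a x) = a (g (b (a (f (b (a x))))))
        rw [h5, hb1 x (hf.le hx), hb1 _ (hf.mem hx)])
    (by
      intro P R f g hf h1 hg hinv hfR a h R' ha hR'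
      obtain ⟨b, hb, hb1, hb2⟩ := exists_inv_T hU ha
      obtain ⟨P', hP', hP'S, -⟩ := Mp.exists_im ha hf.le
      have h3 : Mp D P' (fun y => a (f (b y))) := h1 a _ P' ha fun y hy => by
        obtain ⟨x, hx, rfl⟩ := (hP' y).1 hy
        exact ⟨x, hx, rfl, by rw [hb1 x (hf.le hx)]⟩
      refine h3.symm fun y hy => ?_
      obtain ⟨z, hz, rfl, h5⟩ := hR' y hy
      obtain ⟨x, hx, rfl, h6⟩ := hinv z hz
      exact ⟨a x, hP'.apply hx, by rw [hb1 x (hf.le hx)], by rw [h5, h6]⟩)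

theorem mp_coreG_iff [Finite U] {hU : F.StronglyClosed U} {D : FusionSystem U}
    {P : Subgroup Ω} {f : Ω → Ω} :
    Mp (coreG hU G D) P f ↔ Mp G P f ∧ ∀ (a h : Ω → Ω) (R : Subgroup Ω), Mp F U a →
      (∀ y ∈ R, ∃ x ∈ P, a x = y ∧ h y = a (f x)) → Mp D R h := mp_subSys_iff

/-- Restriction of an element of `Aut_F(U)` to `T`. -/
theorem exists_resU [Finite S] (hT : F.StronglyClosed T) (hTU : T ≤ U) {a : Ω → Ω} (ha : Mp F U a) :
    ∃ b ∈ F.autGroup T, ∀ x ∈ T, a x = ac b x := by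
  have : Finite T := H802.finite_of_le hT.1
  exact exists_ac (ha.res hTU) fun x hx => mp_mem_of_stronglyClosed hT ha (hTU hx) hx

theorem fr_change {E : FusionSystem T} {G : FusionSystem U} {F : FusionSystem S} {P : Subgroup Ω}
    {f : Ω → Ω} {a : MulAut T} (h : Fr E G P f a) (ha : a ∈ F.autGroup T) : Fr E F P f a :=
  ⟨ha, h.2⟩

theorem invC_coreG [Finite U] {hU : F.StronglyClosed U} {D : FusionSystem U}
    (hGF : G.IsSubsystemOf F) : InvC (coreG hU G D) G := by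
  intro P R f a h hf ha hR
  obtain ⟨h1, h2⟩ := mp_coreG_iff.1 hf
  rw [mp_coreG_iff]
  refine ⟨invC_self P R f a h h1 ha hR, ?_⟩
  intro b k R' hb hR'
  refine h2 (fun x => b (a x)) k R' ((mp_mono hGF ha).comp hb fun x hx => ha.mem hx) fun y hy => ?_
  obtain ⟨z, hz, rfl, h3⟩ := hR' y hy
  obtain ⟨x, hx, rfl, h4⟩ := hR z hz
  exact ⟨x, hx, rfl, by rw [h3, h4]⟩

theorem invC_charSys (h : Step p E F K G) {K' : Subgroup (MulAut T)}
    (hK'K : K' ≤ K) (hK'n : ∀ a ∈ F.autGroup T, ∀ k ∈ K', a * k * a⁻¹ ∈ K') :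
    InvC (charSys E G K') F := by
  have hfU : Finite U := H802.finite_of_le h.US
  have hfT : Finite T := H802.finite_of_le (h.TU.trans h.US)
  have hTS : T ≤ S := h.TU.trans h.US
  have hTF : F.StronglyClosed T := h.hEF.1.2.2.2.1
  have hUF : F.StronglyClosed U := h.norm.1.2.2.2.1
  obtain ⟨-, -, hGI, hGFr⟩ := isInvariantIn_iff.1 h.norm.1.2.2
  obtain ⟨-, -, hEI, hEFr⟩ := isInvariantIn_iff.1 h.hEF.1.2.2
  have hTC : ∀ P, TC G T P ↔ TC F T P := fun P =>
    (isCentric_iff_tc h.enorm.1.2.2).symm.trans (isCentric_iff_tc h.hEF.1.2.2)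
  intro P R f a k hf ha hR
  obtain ⟨hf1, hf2⟩ := mp_charSys_iff.1 hf
  refine mp_charSys_iff.2 ⟨hGI P R f a k hf1 ha hR, fun D hDI hDg => ?_⟩
  have hcore := hf2 (coreG hUF G D) (invC_coreG h.GF) ?_
  · exact (mp_coreG_iff.1 hcore).2 a k R ha hR
  intro P₀ f₀ hP₀ hf₀ hκ₀
  rw [mp_coreG_iff]
  refine ⟨hf₀, fun c m R₀ hc hR₀ => ?_⟩
  obtain ⟨c', hc', hc1, hc2⟩ := exists_inv_T hUF hc
  obtain ⟨R₁, hR₁, hR₁S, -⟩ := Mp.exists_im hc hf₀.le
  have hcU : ∀ x ∈ U, c x ∈ U := fun x hx => mp_mem_of_stronglyClosed hUF hc hx hx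
  have hR₁U : R₁ ≤ U := by
    intro y hy
    obtain ⟨x, hx, rfl⟩ := (hR₁ y).1 hy
    exact hcU x (hf₀.le hx)
  have hm : ∀ y ∈ R₁, ∃ x ∈ P₀, c x = y ∧ (fun y => c (f₀ (c' y))) y = c (f₀ x) := by
    intro y hy
    obtain ⟨x, hx, rfl⟩ := (hR₁ y).1 hy
    exact ⟨x, hx, rfl, by show c (f₀ (c' (c x))) = _; rw [hc1 x (hf₀.le hx)]⟩
  have hm1 : Mp G R₁ (fun y => c (f₀ (c' y))) := hGI P₀ R₁ f₀ c _ hf₀ hc hm
  have hRT : ∀ y, y ∈ R₁ ⊓ T ↔ ∃ x ∈ P₀ ⊓ T, c x = y := by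
    intro y
    constructor
    · rintro ⟨hy, hyT⟩
      obtain ⟨x, hx, rfl⟩ := (hR₁ y).1 hy
      exact ⟨x, ⟨hx, mp_mem_of_stronglyClosed' hTF hc (hf₀.le hx) hyT⟩, rfl⟩
    · rintro ⟨x, hx, rfl⟩
      exact ⟨hR₁.apply hx.1, mp_mem_of_stronglyClosed hTF hc (hf₀.le hx.1) hx.2⟩
  have hmD : Mp D R₁ (fun y => c (f₀ (c' y))) := by
    refine hDg R₁ _ ⟨hR₁U, ?_⟩ hm1 ?_
    · rw [hTC]
      exact ((hTC _).1 hP₀.2).image hTF (hc.res (inf_le_left.trans hf₀.le)) hRT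
    · obtain ⟨κ, hκ, h3⟩ := hκ₀
      obtain ⟨b, hb, hab⟩ := exists_resU hTF h.TU hc
      have hκF : κ ∈ F.autGroup T := h.KF (hK'K hκ)
      have hbi : ∀ y ∈ R₁ ⊓ T, ac b⁻¹ y ∈ P₀ ⊓ T ∧ c (ac b⁻¹ y) = y := by
        rintro y hy
        obtain ⟨x, hx, rfl⟩ := (hRT y).1 hy
        rw [hab x hx.2, ac_inv_ac b hx.2]
        exact ⟨hx, hab x hx.2⟩
      have hbk : b * (κ * b⁻¹) ∈ K' := by rw [← mul_assoc]; exact hK'n b hb κ hκ
      refine ⟨b * (κ * b⁻¹), hbk, ?_⟩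
      have hf₀T : ∀ x ∈ P₀ ⊓ T, f₀ x ∈ T := fun x hx =>
        mp_mem_of_stronglyClosed hTF (mp_mono h.GF hf₀) hx.1 hx.2
      have h4 : Fr E F (R₁ ⊓ T) (ac b⁻¹) b⁻¹ := Fr.of_aut (inv_mem hb) inf_le_right
      have h5 : Fr E F T (ac b) b := Fr.of_aut hb le_rfl
      have h6 := (h4.comp hTS hEI (fr_change h3 hκF) fun y hy => (hbi y hy).1).comp hTS hEI h5
        fun y hy => hf₀T _ (hbi y hy).1
      refine fr_change (h6.congr fun y hy => ?_) (by rw [h.aut]; exact hK'K hbk)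
      obtain ⟨x, hx, rfl⟩ := (hRT y).1 hy
      have h8 : ac b⁻¹ (c x) = x := by rw [hab x hx.2, ac_inv_ac b hx.2]
      show c (f₀ (c' (c x))) = ac b (f₀ (ac b⁻¹ (c x)))
      rw [h8, hc1 x (hf₀.le hx.1)]
      exact hab _ (hf₀T x hx)
  have hR₀R₁ : R₀ ≤ R₁ := by
    intro y hy
    obtain ⟨x, hx, rfl, -⟩ := hR₀ y hy
    exact hR₁.apply hx
  refine (hmD.res hR₀R₁).congr fun y hy => ?_
  obtain ⟨x, hx, rfl, h9⟩ := hR₀ y hy
  rw [h9, hc1 x (hf₀.le hx)]

end Step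

end Cfsg.Agent.H770
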